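import Groth.Agent.FlatMor.K261.TensPush
import Groth.Agent.KSix.K240.RelComp
import Groth.Agent.PerfA.ExtPC

/-!
# Relative pseudo-coherence of `Lf^* F ⊗ᴸ E` for a composition
-/

set_option autoImplicit false
universe u

open CategoryTheory CategoryTheory.Limits AlgebraicGeometry DerivedCategory Pretriangulated
open Groth.Agent Groth.Agent.PerfA Groth.Agent.PerfA.Restrict Groth.Agent.PerfC.PcLocal
open Groth.Agent.PerfC.ClosedImmPc Groth.Agent.PerfB.FlatPull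
open K240.PushTest K240.ChartChange K240.RelData K240.RelChart K240.RelBasic K240.RelFlat K240.RelComp
open Groth.Agent.PerfC.IsoLocus

attribute [local instance] HasDerivedCategory.standard

namespace K261.TensRel

/-- `f^*` on complexes. -/
local notation3 "pb(" f ", " K ")" =>
  Prefunctor.obj (Functor.toPrefunctor (Functor.mapHomologicalComplex (Scheme.Modules.pullback f)
    (ComplexShape.up ℤ))) K

lemma exists_kflat {X : Scheme.{u}} (F : DCoh.D X) :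
    ∃ P : CochainComplex X.Modules ℤ, DCoh.IsKFlat P ∧ Nonempty (DerivedCategory.Q.obj P ≅ F) := by
  obtain ⟨P, w, hP, hw⟩ := PerfC.DTens.hasRes X (DerivedCategory.Q.objPreimage F)
  have h1 : IsIso (DerivedCategory.Q.map w) := (DerivedCategory.isIso_Q_map_iff_quasiIso _ _).2 hw
  exact ⟨P, hP, ⟨asIso (DerivedCategory.Q.map w) ≪≫ DerivedCategory.Q.objObjPreimageIso F⟩⟩

/-- `- ⊗ᴸ P` only depends on the class of `P`. -/
lemma nonempty_congr {X : Scheme.{u}} {P P' : CochainComplex X.Modules ℤ} [DCoh.HasLTensorCx P]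
    [DCoh.HasLTensorCx P'] (e : DerivedCategory.Q.obj P ≅ DerivedCategory.Q.obj P') :
    Nonempty (DCoh.LTensorCx P ≅ DCoh.LTensorCx P') :=
  ⟨(PerfC.DTens.LTXcx P).symm ≪≫ (PerfC.DTens.LTX X).flip.mapIso e ≪≫ PerfC.DTens.LTXcx P'⟩

/-- The projection formula for a closed immersion, in terms of `pushD`. -/
lemma nonempty_proj {X Y : Scheme.{u}} (f : X ⟶ Y) [IsClosedImmersion f]
    (P : CochainComplex Y.Modules ℤ) (hP : DCoh.IsKFlat P) [DCoh.HasLTensorCx P]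
    [DCoh.HasLTensorCx pb(f, P)] (E : DCoh.D X) :
    Nonempty ((DCoh.LTensorCx P).obj ((pushD f).obj E) ≅
      (pushD f).obj ((DCoh.LTensorCx pb(f, P)).obj E)) := by
  have hP' := PerfB.StalkKFlat.isKFlat_pullback f P hP
  let K := DerivedCategory.Q.objPreimage E
  let e : DerivedCategory.Q.obj K ≅ E := DerivedCategory.Q.objObjPreimageIso E
  obtain ⟨e1⟩ := Dcoh.ClosedProjD.nonempty_isoQ hP
    (((Scheme.Modules.pushforward f).mapHomologicalComplex (ComplexShape.up ℤ)).obj K)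
  obtain ⟨e2⟩ := Dcoh.ClosedProjD.nonempty_isoQ hP' K
  obtain ⟨e3⟩ := Dcoh.ClosedProjD.nonempty_cxIso f K P
  exact ⟨(DCoh.LTensorCx P).mapIso ((pushD f).mapIso e.symm ≪≫
      (Scheme.Modules.pushforward f).mapDerivedCategoryFactors.app K) ≪≫ e1 ≪≫
    DerivedCategory.Q.mapIso e3 ≪≫
      ((Scheme.Modules.pushforward f).mapDerivedCategoryFactors.app _).symm ≪≫
      (pushD f).mapIso (e2.symm ≪≫ (DCoh.LTensorCx _).mapIso e)⟩

/-- `Q(i^* r^* P) ≅ Q(j^* f^* P)` if `i ≫ r = j ≫ f`. -/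
lemma nonempty_sq {U X Q Y : Scheme.{u}} {i : U ⟶ Q} {r : Q ⟶ Y} {j : U ⟶ X} {f : X ⟶ Y}
    (w : i ≫ r = j ≫ f) (P : CochainComplex Y.Modules ℤ) (hP : DCoh.IsKFlat P) :
    Nonempty (DerivedCategory.Q.obj pb(i, pb(r, P)) ≅ DerivedCategory.Q.obj pb(j, pb(f, P))) := by
  have h1 := Groth.Agent.Dcoh.DerPull.hasLpull i
  have h2 := Groth.Agent.Dcoh.DerPull.hasLpull r
  have h3 := Groth.Agent.Dcoh.DerPull.hasLpull j
  have h4 := Groth.Agent.Dcoh.DerPull.hasLpull f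
  have h5 := Groth.Agent.Dcoh.DerPull.hasLpull (i ≫ r)
  have h6 := Groth.Agent.Dcoh.DerPull.hasLpull (j ≫ f)
  have hr := Groth.Agent.S0952.result r P hP
  have hf := Groth.Agent.S0952.result f P hP
  exact ⟨(Groth.Agent.Dcoh.DerPull.lpullIso i _ hr).symm ≪≫
    (DCoh.Lpull i).mapIso (Groth.Agent.Dcoh.DerPull.lpullIso r P hP).symm ≪≫
    (Groth.Agent.Dcoh.DerPull.lpullCompIso i r).app _ ≪≫
    (Groth.Agent.Dcoh.DerPull.lpullCongr w).app _ ≪≫
    (Groth.Agent.Dcoh.DerPull.lpullCompIso j f).symm.app _ ≪≫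
    (DCoh.Lpull j).mapIso (Groth.Agent.Dcoh.DerPull.lpullIso f P hP) ≪≫
    Groth.Agent.Dcoh.DerPull.lpullIso j _ hf⟩

variable {X Y Z : Scheme.{u}} {f : X ⟶ Y} {g : Y ⟶ Z}

/-- The test for `Lf^* F ⊗ᴸ E` relative to the composite. -/
theorem bot_test (τ : Tower f g) (E : CochainComplex X.Modules ℤ) [DCoh.HasLpull f]
    [DCoh.HasLTensorCx E] (F : DCoh.D Y) {a b c d m : ℤ} (hE : τ.top.test a (DerivedCategory.Q.obj E))
    (hEb : ((restrictD τ.j).obj (DerivedCategory.Q.obj E)).IsLE b) (hF : τ.E.test c F)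
    (hFd : ((restrictD τ.E.j).obj F).IsLE d) (h1 : a + d ≤ m) (h2 : b + c ≤ m) :
    τ.bot.test m ((DCoh.LTensorCx E).obj ((DCoh.Lpull f).obj F)) := by
  rw [Tower.bot_test_iff]
  obtain ⟨P, hP, ⟨eP⟩⟩ := exists_kflat F
  have hfP := Groth.Agent.S0952.result f P hP
  have i1 := PerfC.DTens.hasLTensorCx pb(f, P)
  have i2 := PerfC.DTens.hasLTensorCx pb(τ.j, pb(f, P))
  let r : pullback τ.t τ.E.i ⟶ Y := pullback.snd τ.t τ.E.i ≫ τ.E.j
  have hr : Flat r := inferInstance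
  have hrP : DCoh.IsKFlat pb(r, P) := Groth.Agent.S0952.result r P hP
  have i3 := PerfC.DTens.hasLTensorCx pb(r, P)
  have i4 := PerfC.DTens.hasLTensorCx pb(τ.i, pb(r, P))
  have w : τ.i ≫ r = τ.j ≫ f := by
    rw [← Category.assoc, Tower.i_snd, τ.wh]
  -- the object
  obtain ⟨e1⟩ := Cohder.RelPCMon.nonempty_symm E pb(f, P) hfP
  obtain ⟨e2⟩ := K261.TensPush.nonempty_restrict τ.j pb(f, P) hfP (DerivedCategory.Q.obj E)
  obtain ⟨e3⟩ := nonempty_sq w P hP
  obtain ⟨e4⟩ := nonempty_congr e3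
  obtain ⟨e5⟩ := nonempty_proj τ.i pb(r, P) hrP ((restrictD τ.j).obj (DerivedCategory.Q.obj E))
  have e : (pushD τ.i).obj ((restrictD τ.j).obj ((DCoh.LTensorCx E).obj ((DCoh.Lpull f).obj F))) ≅
      (DCoh.LTensorCx pb(r, P)).obj
        ((pushD τ.i).obj ((restrictD τ.j).obj (DerivedCategory.Q.obj E))) :=
    (pushD τ.i).mapIso ((restrictD τ.j).mapIso ((DCoh.LTensorCx E).mapIso
      ((DCoh.Lpull f).mapIso eP.symm ≪≫ Groth.Agent.Dcoh.DerPull.lpullIso f P hP) ≪≫ e1) ≪≫ e2 ≪≫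
        e4.symm.app _) ≪≫ e5.symm
  refine pc_of_iso ((pushD τ.c).mapIso e.symm) ?_
  -- the class of `r^* P`
  have e6 : DerivedCategory.Q.obj pb(r, P) ≅
      (pullbackD (pullback.snd τ.t τ.E.i)).obj ((restrictD τ.E.j).obj F) := by
    have j1 := Groth.Agent.Dcoh.DerPull.hasLpull r
    have j2 := Groth.Agent.Dcoh.DerPull.hasLpull (pullback.snd τ.t τ.E.i)
    have j3 := Groth.Agent.Dcoh.DerPull.hasLpull τ.E.j
    exact (Groth.Agent.Dcoh.DerPull.lpullIso r P hP).symm ≪≫ (DCoh.Lpull r).mapIso eP ≪≫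
      (Groth.Agent.Dcoh.DerPull.lpullCompIso (pullback.snd τ.t τ.E.i) τ.E.j).symm.app F ≪≫
      (Groth.Agent.PerfB.FlatPull.lpullIso (pullback.snd τ.t τ.E.i)).app _ ≪≫
      (pullbackD (pullback.snd τ.t τ.E.i)).mapIso ((Groth.Agent.Dcoh.DerPull.lpullOpenIso τ.E.j).app F)
  have hd : (DerivedCategory.Q.obj pb(r, P)).IsLE d := by
    have h3 : ((pullbackD (pullback.snd τ.t τ.E.i)).obj ((restrictD τ.E.j).obj F)).IsLE d :=
      ExactD.isLE_map _ _ _
    exact ⟨DerivedCategory.TStructure.t.isLE_of_iso e6.symm d |>.le⟩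
  have hn : DCoh.IsPseudoCoherentD c ((pushD τ.c).obj (DerivedCategory.Q.obj pb(r, P))) :=
    pc_of_iso ((pushD τ.c).mapIso e6.symm) (T_pullback τ.isPullback_c hF)
  have hle : ((pushD τ.i).obj ((restrictD τ.j).obj (DerivedCategory.Q.obj E))).IsLE b :=
    isLE_pushD _ _ _ hEb
  exact K261.TensPush.push_tens_le τ.c pb(r, P) hrP hd hn _ hle hE h1 h2

/-- The datum-wise bound: an object which is pseudo-coherent relative to `g` is bounded above on the source of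
a datum with quasi-compact ambient scheme. -/
lemma exists_isLE_of_test {Y Z : Scheme.{u}} {g : Y ⟶ Z} (D : Datum g) [IsAffine D.P] {m : ℤ} {F : DCoh.D Y}
    (h : D.test m F) : ∃ d : ℤ, ((restrictD D.j).obj F).IsLE d := by
  have h' : DCoh.IsPseudoCoherentD m ((pushD D.i).obj ((restrictD D.j).obj F)) := h
  obtain ⟨d, hd⟩ := ExtPC.exists_isLE_of_isPseudoCoherentD h'
  exact ⟨d, isLE_of_isLE_pushD D.i _ d hd⟩

/-- `- ⊗ᴸ O_X` is the identity. -/
lemma nonempty_tensUnit (X : Scheme.{u}) [DCoh.HasLTensorCx (DerSch.unitCx X)] (R : DCoh.D X) :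
    Nonempty ((DCoh.LTensorCx (DerSch.unitCx X)).obj R ≅ R) := by
  have h2 := Groth.Agent.Dcoh.LTMod.hasLTensorMod (Coh.structureModule X)
  obtain ⟨b⟩ := Cohder.RelPCMon.nonempty_mod (Coh.structureModule X) R
  obtain ⟨c⟩ := Groth.Agent.Dcoh.LTMod.nonempty_unitIso R
  exact ⟨b.symm ≪≫ c⟩

/-- Derived pullback along a pseudo-coherent morphism. -/
theorem rel_lpull [LocallyOfFiniteType f] [LocallyOfFiniteType g]
    (hf : ∀ n : ℤ, DerSch.IsNPseudoCoherent f n) [DCoh.HasLpull f] (m : ℤ) (E : DCoh.D Y)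
    (hE : DerSch.IsPseudoCoherentRel g m E) :
    DerSch.IsPseudoCoherentRel (f ≫ g) m ((DCoh.Lpull f).obj E) := by
  have i1 := PerfC.DTens.hasLTensorCx (DerSch.unitCx X)
  obtain ⟨e⟩ := nonempty_tensUnit X ((DCoh.Lpull f).obj E)
  refine isPseudoCoherentRel_of_iso e (isPseudoCoherentRel_of_data fun x => ?_)
  obtain ⟨τ, u, hu, hU, hP', hW, hP⟩ := exists_tower f g x
  refine ⟨τ.bot, u, hu, ?_⟩
  have hF : τ.E.test m E := test_of_isPseudoCoherentRel hE τ.E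
  obtain ⟨d, hd⟩ := exists_isLE_of_test τ.E hF
  have h0 : (DerivedCategory.Q.obj (DerSch.unitCx X)).IsLE 0 := by
    rw [DerivedCategory.isLE_Q_obj_iff]
    infer_instance
  exact bot_test τ (DerSch.unitCx X) E (a := m - d) (b := 0) (c := m) (d := d)
    (test_of_isPseudoCoherentRel (hf (m - d)) τ.top) (ExactD.isLE_map _ _ _) hF hd (by lia) (by lia)

/-- Relative pseudo-coherence of `Lf^* F ⊗ᴸ E`. -/
theorem rel_ltensor_lpull [LocallyOfFiniteType f] [LocallyOfFiniteType g] {a b c d m : ℤ}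
    (E : CochainComplex X.Modules ℤ) (hE : DerSch.IsPseudoCoherentRel f a (DerivedCategory.Q.obj E))
    (hEb : (DerivedCategory.Q.obj E).IsLE b) (F : DCoh.D Y) (hF : DerSch.IsPseudoCoherentRel g c F)
    (hFd : F.IsLE d) [DCoh.HasLpull f] [DCoh.HasLTensorCx E] (h1 : a + d ≤ m) (h2 : b + c ≤ m) :
    DerSch.IsPseudoCoherentRel (f ≫ g) m ((DCoh.LTensorCx E).obj ((DCoh.Lpull f).obj F)) := by
  refine isPseudoCoherentRel_of_data fun x => ?_
  obtain ⟨τ, u, hu, -⟩ := exists_tower f g x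
  exact ⟨τ.bot, u, hu, bot_test τ E F (test_of_isPseudoCoherentRel hE τ.top) (ExactD.isLE_map _ _ _)
    (test_of_isPseudoCoherentRel hF τ.E) (ExactD.isLE_map _ _ _) h1 h2⟩

end K261.TensRel
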