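import Groth.Agent.FlatMor.K261.CDevMod

/-!
# The base change of a complete dévissage
-/

set_option autoImplicit false
universe u

namespace K261.CDevAsm

open FlatCA TensorProduct K261.CDevFam K261.CDevMod
open Groth.Agent.Flat2B.PointBC Groth.Agent.Flat2B.FibreBC Groth.Agent.Flat2B.BCTools
open Groth.Agent.Flat2B.StepBC

section Fam

variable {R S : Type u} [CommRing R] [CommRing S] [Algebra R S] {N : Type u} [AddCommGroup N]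
  [Module S N] {p : Ideal R} [p.IsPrime] (𝒟 : CompleteDevissage R S N p)
  (R' : Type u) [CommRing R'] [Algebra R R']

theorem poA (i : Fin 𝒟.n) : Algebra.IsPushout R (𝒟.A i) R' (fA 𝒟 R' i) :=
  have := isPushout_fA 𝒟 R' i
  Algebra.IsPushout.symm inferInstance

theorem poB (i : Fin 𝒟.n) : Algebra.IsPushout R (𝒟.B i) R' (fB 𝒟 R' i) :=
  have := isPushout_fB 𝒟 R' i
  Algebra.IsPushout.symm inferInstance

theorem poBA (i : Fin 𝒟.n) : Algebra.IsPushout (𝒟.B i) (𝒟.A i) (fB 𝒟 R' i) (fA 𝒟 R' i) :=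
  have := poA 𝒟 R' i
  have := poB 𝒟 R' i
  pushout_right R (𝒟.B i) (𝒟.A i) R' (fB 𝒟 R' i) (fA 𝒟 R' i)

theorem poBA' (i : Fin 𝒟.n) (hi : (i : ℕ) + 1 < 𝒟.n) :
    Algebra.IsPushout (𝒟.B i) (𝒟.A (i + 1)) (fB 𝒟 R' i) (fA 𝒟 R' (i + 1)) :=
  have : Algebra.IsPushout R (𝒟.A (i + 1)) R' (fA 𝒟 R' (i + 1)) := poA 𝒟 R' ⟨i + 1, hi⟩
  have := poB 𝒟 R' i
  pushout_right R (𝒟.B i) (𝒟.A (i + 1)) R' (fB 𝒟 R' i) (fA 𝒟 R' (i + 1))

theorem smooth_fB (i : Fin 𝒟.n) : Algebra.Smooth R' (fB 𝒟 R' i) :=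
  have := poB 𝒟 R' i
  have := 𝒟.smooth i i.2
  smooth_of_isPushout R (𝒟.B i) R' (fB 𝒟 R' i)

theorem geomIrred_fB (i : Fin 𝒟.n) : GeomIrredFibres R' (fB 𝒟 R' i) :=
  have := poB 𝒟 R' i
  geomIrredFibres_of_isPushout R (𝒟.B i) R' (fB 𝒟 R' i) (𝒟.geomIrred i i.2)

theorem isPrime_fB (p' : Ideal R') [p'.IsPrime] (i : ℕ) :
    (p'.map (algebraMap R' (fB 𝒟 R' i))).IsPrime := by
  by_cases hi : i < 𝒟.n
  · exact isPrime_map_of_smooth (smooth_fB 𝒟 R' ⟨i, hi⟩) (geomIrred_fB 𝒟 R' ⟨i, hi⟩) p'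
  · exact isPrime_tail 𝒟 R' i hi p'

theorem isBaseChange_fg_B (i : Fin 𝒟.n) :
    IsBaseChange (fB 𝒟 R' i) ((fg 𝒟 R' i).restrictScalars (𝒟.B i)) :=
  have := poBA 𝒟 R' i
  isBaseChange_of_isPushout (fg 𝒟 R' i) (isBaseChange_fg 𝒟 R' i)

theorem isBaseChange_fg_B' (i : Fin 𝒟.n) (hi : (i : ℕ) + 1 < 𝒟.n) :
    IsBaseChange (fB 𝒟 R' i) ((fg 𝒟 R' (i + 1)).restrictScalars (𝒟.B i)) :=
  have := poBA' 𝒟 R' i hi
  isBaseChange_of_isPushout (fg 𝒟 R' (i + 1)) (isBaseChange_fg 𝒟 R' (i + 1))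

/-- base change of the cokernels -/
theorem exists_coker (i : Fin 𝒟.n) :
    ∃ w : (𝒟.M i ⧸ LinearMap.range (𝒟.α i)) →ₗ[𝒟.B i] (fM 𝒟 R' i ⧸ LinearMap.range (fα 𝒟 R' i)),
      IsBaseChange (fB 𝒟 R' i) w ∧
      ∀ m, w (Submodule.Quotient.mk m) = Submodule.Quotient.mk (fg 𝒟 R' i m) :=
  isBaseChange_coker (𝒟.α i) (isBaseChange_fβ 𝒟 R' i) (isBaseChange_fg_B 𝒟 R' i) (fα 𝒟 R' i)
    (fα_fβ 𝒟 R' i)

theorem exists_isoCoker (i : Fin 𝒟.n) (hi : (i : ℕ) + 1 < 𝒟.n) :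
    Nonempty ((fM 𝒟 R' i ⧸ LinearMap.range (fα 𝒟 R' i)) ≃ₗ[fB 𝒟 R' i] fM 𝒟 R' (i + 1)) := by
  obtain ⟨w, hw, -⟩ := exists_coker 𝒟 R' i
  exact ⟨hw.equiv.symm ≪≫ₗ LinearEquiv.baseChange (𝒟.B i) (fB 𝒟 R' i) _ _ (𝒟.isoCoker i hi) ≪≫ₗ
    (isBaseChange_fg_B' 𝒟 R' i hi).equiv⟩

theorem fα_surjective (i : Fin 𝒟.n) (h : Function.Surjective (𝒟.α i)) :
    Function.Surjective (fα 𝒟 R' i) := by
  rw [← LinearMap.range_eq_top, range_fα, LinearMap.range_eq_top.2 h, eq_top_iff]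
  intro z _
  induction z using (isBaseChange_fg_B 𝒟 R' i).inductionOn with
  | zero => exact Submodule.zero_mem _
  | tmul m => exact Submodule.subset_span ⟨m, trivial, rfl⟩
  | smul s n hn => exact Submodule.smul_mem _ _ (hn trivial)
  | add a b ha hb => exact Submodule.add_mem _ (ha trivial) (hb trivial)

theorem surjBA'_f (i : Fin 𝒟.n) (hi : (i : ℕ) + 1 < 𝒟.n) :
    Function.Surjective (algebraMap (fB 𝒟 R' i) (fA 𝒟 R' (i + 1))) :=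
  have := poBA' 𝒟 R' i hi
  surjective_of_isPushout (𝒟.B i) (𝒟.A (i + 1)) (fB 𝒟 R' i) (fA 𝒟 R' (i + 1)) (𝒟.surjBA' i hi)

theorem fpBA'_f (i : Fin 𝒟.n) (hi : (i : ℕ) + 1 < 𝒟.n) :
    Algebra.FinitePresentation (fB 𝒟 R' i) (fA 𝒟 R' (i + 1)) :=
  have := poBA' 𝒟 R' i hi
  have := 𝒟.fpBA' i hi
  finitePresentation_of_isPushout (𝒟.B i) (𝒟.A (i + 1)) (fB 𝒟 R' i) (fA 𝒟 R' (i + 1))

theorem finiteBA_f (i : Fin 𝒟.n) : Module.Finite (fB 𝒟 R' i) (fA 𝒟 R' i) :=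
  have := poBA 𝒟 R' i
  have := 𝒟.finiteBA i i.2
  finite_of_isPushout (𝒟.B i) (𝒟.A i) (fB 𝒟 R' i) (fA 𝒟 R' i)

theorem finiteM_f (i : Fin 𝒟.n) : Module.Finite (fA 𝒟 R' i) (fM 𝒟 R' i) :=
  have := 𝒟.finiteM i i.2
  Module.Finite.equiv (isBaseChange_fg 𝒟 R' i).equiv

theorem fibreIso_fα (p' : Ideal R') [p'.IsPrime] [p'.LiesOver p] (i : Fin 𝒟.n)
    [(p'.map (algebraMap R' (fB 𝒟 R' i))).IsPrime] :
    Function.Bijective ((fα 𝒟 R' i).baseChange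
      (p'.map (algebraMap R' (fB 𝒟 R' i))).ResidueField) := by
  have hpo := poB 𝒟 R' i
  have hsm := 𝒟.smooth i i.2
  have hfl : Module.Flat R (𝒟.B i) := inferInstance
  have h2 : (p'.map (algebraMap R' (fB 𝒟 R' i))).LiesOver (p.map (algebraMap R (𝒟.B i))) :=
    K261.CDevMod.map_liesOver_map p p'
  have h3 := fibreIso_aux (p.map (algebraMap R (𝒟.B i))) (p'.map (algebraMap R' (fB 𝒟 R' i))) (𝒟.α i)
        ((fg 𝒟 R' i).restrictScalars (𝒟.B i)) (isBaseChange_fg_B 𝒟 R' i) (isBaseChange_fβ 𝒟 R' i)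
        (𝒟.fibreIso i i.2)
  have h4 : fα 𝒟 R' i = (isBaseChange_fβ 𝒟 R' i).lift
      (((fg 𝒟 R' i).restrictScalars (𝒟.B i)).comp (𝒟.α i)) := by
    apply (isBaseChange_fβ 𝒟 R' i).algHom_ext
    intro x
    rw [fα_fβ, (isBaseChange_fβ 𝒟 R' i).lift_eq]
    rfl
  rw [h4]
  exact h3

end Fam

/-- The base change of a complete dévissage. -/
theorem exists_bc
    (R S : Type u) [CommRing R] [CommRing S] [Algebra R S]
    (N : Type u) [AddCommGroup N] [Module S N]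
    (p : Ideal R) [p.IsPrime] (𝒟 : FlatCA.CompleteDevissage R S N p)
    (R' : Type u) [CommRing R'] [Algebra R R'] (p' : Ideal R') [p'.IsPrime] [p'.LiesOver p]
    (S' : Type u) [CommRing S'] [Algebra R' S'] [Algebra R S'] [Algebra S S'] [IsScalarTower R R' S']
    [IsScalarTower R S S'] [Algebra.IsPushout R R' S S']
    (N' : Type u) [AddCommGroup N'] [Module S' N'] [Module S N'] [IsScalarTower S S' N']
    (f : N →ₗ[S] N') (hf : IsBaseChange S' f) :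
    ∃ (𝒟' : FlatCA.CompleteDevissage R' S' N' p')
      (aA : ∀ i : Fin 𝒟.n, Algebra (𝒟.A i) (𝒟'.A i)) (rA : ∀ i : Fin 𝒟.n, Algebra R (𝒟'.A i))
      (_t1 : ∀ i : Fin 𝒟.n, IsScalarTower R (R') (𝒟'.A i)) (_t2 : ∀ i : Fin 𝒟.n, IsScalarTower R (𝒟.A i) (𝒟'.A i))
      (aB : ∀ i : Fin 𝒟.n, Algebra (𝒟.B i) (𝒟'.B i)) (rB : ∀ i : Fin 𝒟.n, Algebra R (𝒟'.B i))
      (_t3 : ∀ i : Fin 𝒟.n, IsScalarTower R (R') (𝒟'.B i)) (_t4 : ∀ i : Fin 𝒟.n, IsScalarTower R (𝒟.B i) (𝒟'.B i))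
      (bA : ∀ i : Fin 𝒟.n, Algebra (𝒟.B i) (𝒟'.A i)) (_t5 : ∀ i : Fin 𝒟.n, IsScalarTower (𝒟.B i) (𝒟.A i) (𝒟'.A i))
      (_t6 : ∀ i : Fin 𝒟.n, IsScalarTower (𝒟.B i) (𝒟'.B i) (𝒟'.A i))
      (bA' : ∀ i : Fin 𝒟.n, Algebra (𝒟.B i) (𝒟'.A (i + 1)))
      (_t7 : ∀ i : Fin 𝒟.n, IsScalarTower (𝒟.B i) (𝒟'.B i) (𝒟'.A (i + 1)))
      (sA : Algebra S (𝒟'.A 0)) (_t8 : IsScalarTower S (S') (𝒟'.A 0))
      (mA : ∀ i : Fin 𝒟.n, Module (𝒟.A i) (𝒟'.M i)) (_t9 : ∀ i : Fin 𝒟.n, IsScalarTower (𝒟.A i) (𝒟'.A i) (𝒟'.M i))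
      (gM : ∀ i : Fin 𝒟.n, 𝒟.M i →ₗ[𝒟.A i] 𝒟'.M i),
      𝒟'.n = 𝒟.n ∧ 𝒟'.r = 𝒟.r ∧
      (letI := aA ⟨0, 𝒟.pos⟩; IsScalarTower S (𝒟.A 0) (𝒟'.A 0)) ∧
      (∀ x : N, 𝒟'.isoN (f x) = gM ⟨0, 𝒟.pos⟩ (𝒟.isoN x)) ∧
      (∀ (i : Fin 𝒟.n) (h : (i : ℕ) + 1 < 𝒟.n),
        letI := aA ⟨i + 1, h⟩; IsScalarTower (𝒟.B i) (𝒟.A (i + 1)) (𝒟'.A (i + 1))) ∧
      ∀ i : Fin 𝒟.n,
        Algebra.IsPushout R R' (𝒟.A i) (𝒟'.A i) ∧ Algebra.IsPushout R R' (𝒟.B i) (𝒟'.B i) ∧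
        IsBaseChange (𝒟'.A i) (gM i) ∧
        LinearMap.range (𝒟'.α i) =
          Submodule.span (𝒟'.B i) ((gM i) '' (LinearMap.range (𝒟.α i) : Set (𝒟.M i))) := by
  have poS : Algebra.IsPushout R S R' S' := Algebra.IsPushout.symm inferInstance
  -- `S → fA 0` and `S' → fA 0`
  let aSA : Algebra S (fA 𝒟 R' 0) :=
    ((algebraMap (𝒟.A 0) (fA 𝒟 R' 0)).comp (algebraMap S (𝒟.A 0))).toAlgebra
  have tSAA : IsScalarTower S (𝒟.A 0) (fA 𝒟 R' 0) := IsScalarTower.of_algebraMap_eq' rfl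
  have tRSA : IsScalarTower R S (fA 𝒟 R' 0) := by
    refine IsScalarTower.of_algebraMap_eq fun x => ?_
    rw [IsScalarTower.algebraMap_apply S (𝒟.A 0) (fA 𝒟 R' 0),
      ← IsScalarTower.algebraMap_apply R S (𝒟.A 0), ← IsScalarTower.algebraMap_apply R (𝒟.A 0)]
  let φ : S' →ₐ[R] fA 𝒟 R' 0 := Algebra.pushoutDesc S' (IsScalarTower.toAlgHom R S (fA 𝒟 R' 0))
    (IsScalarTower.toAlgHom R R' (fA 𝒟 R' 0)) (fun _ _ => mul_comm _ _)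
  let aS'A : Algebra S' (fA 𝒟 R' 0) := φ.toRingHom.toAlgebra
  have tSSA : IsScalarTower S S' (fA 𝒟 R' 0) := IsScalarTower.of_algebraMap_eq fun x =>
    (Algebra.pushoutDesc_left S' (IsScalarTower.toAlgHom R S (fA 𝒟 R' 0))
      (IsScalarTower.toAlgHom R R' (fA 𝒟 R' 0)) (fun _ _ => mul_comm _ _) x).symm
  have tRSA' : IsScalarTower R' S' (fA 𝒟 R' 0) := IsScalarTower.of_algebraMap_eq fun x =>
    (Algebra.pushoutDesc_right S' (IsScalarTower.toAlgHom R S (fA 𝒟 R' 0))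
      (IsScalarTower.toAlgHom R R' (fA 𝒟 R' 0)) (fun _ _ => mul_comm _ _) x).symm
  let mS' : Module S' (fM 𝒟 R' 0) := Module.compHom _ (algebraMap S' (fA 𝒟 R' 0))
  have tS'M : IsScalarTower S' (fA 𝒟 R' 0) (fM 𝒟 R' 0) :=
    IsScalarTower.of_algebraMap_smul fun _ _ => rfl
  let mS : Module S (fM 𝒟 R' 0) := Module.compHom _ (algebraMap S (fA 𝒟 R' 0))
  have tSM : IsScalarTower S (fA 𝒟 R' 0) (fM 𝒟 R' 0) :=
    IsScalarTower.of_algebraMap_smul fun _ _ => rfl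
  have tSAM : IsScalarTower S (𝒟.A 0) (fM 𝒟 R' 0) := IsScalarTower.of_algebraMap_smul fun r m => by
    rw [← algebraMap_smul (fA 𝒟 R' 0) (algebraMap S (𝒟.A 0) r) m,
      ← IsScalarTower.algebraMap_apply, algebraMap_smul]
  have tSS'M : IsScalarTower S S' (fM 𝒟 R' 0) := IsScalarTower.of_algebraMap_smul fun r m => by
    rw [← algebraMap_smul (fA 𝒟 R' 0) (algebraMap S S' r) m,
      ← IsScalarTower.algebraMap_apply, algebraMap_smul]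
  have poA0 : Algebra.IsPushout R (𝒟.A 0) R' (fA 𝒟 R' 0) := poA 𝒟 R' ⟨0, 𝒟.pos⟩
  have poSA : Algebra.IsPushout S (𝒟.A 0) S' (fA 𝒟 R' 0) :=
    pushout_right R S (𝒟.A 0) R' S' (fA 𝒟 R' 0)
  have hgS : IsBaseChange S' ((fg 𝒟 R' 0).restrictScalars S) :=
    isBaseChange_of_isPushout (fg 𝒟 R' 0) (isBaseChange_fg 𝒟 R' 0)
  let 𝒟' : FlatCA.CompleteDevissage R' S' N' p' :=
    { n := 𝒟.n
      pos := 𝒟.pos
      A := fA 𝒟 R'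
      B := fB 𝒟 R'
      M := fM 𝒟 R'
      r := 𝒟.r
      aSA := aS'A
      tRSA := tRSA'
      mSM := mS'
      tSAM := tS'M
      hp := isPrime_fB 𝒟 R' p'
      α := fα 𝒟 R'
      surjSA := surjective_of_isPushout S (𝒟.A 0) S' (fA 𝒟 R' 0) 𝒟.surjSA
      fpSA := have := 𝒟.fpSA; finitePresentation_of_isPushout S (𝒟.A 0) S' (fA 𝒟 R' 0)
      surjBA' := fun i hi => surjBA'_f 𝒟 R' ⟨i, Nat.lt_of_succ_lt hi⟩ hi
      fpBA' := fun i hi => fpBA'_f 𝒟 R' ⟨i, Nat.lt_of_succ_lt hi⟩ hi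
      finiteBA := fun i hi => finiteBA_f 𝒟 R' ⟨i, hi⟩
      smooth := fun i hi => smooth_fB 𝒟 R' ⟨i, hi⟩
      geomIrred := fun i hi => geomIrred_fB 𝒟 R' ⟨i, hi⟩
      finiteM := fun i hi => finiteM_f 𝒟 R' ⟨i, hi⟩
      isoN := hf.equiv.symm ≪≫ₗ (LinearEquiv.baseChange S S' _ _ 𝒟.isoN) ≪≫ₗ hgS.equiv
      isoCoker := fun i hi => (exists_isoCoker 𝒟 R' ⟨i, Nat.lt_of_succ_lt hi⟩ hi).some
      fibreIso := fun i hi =>
        have := isPrime_fB 𝒟 R' p' i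
        fibreIso_fα 𝒟 R' p' ⟨i, hi⟩
      cokerLast := fα_surjective 𝒟 R' ⟨𝒟.n - 1, Nat.sub_lt 𝒟.pos Nat.one_pos⟩ 𝒟.cokerLast }
  refine ⟨𝒟', fun i => (inferInstance : Algebra (𝒟.A i) (fA 𝒟 R' i)),
    fun i => (inferInstance : Algebra R (fA 𝒟 R' i)),
    fun i => (inferInstance : IsScalarTower R R' (fA 𝒟 R' i)),
    fun i => (inferInstance : IsScalarTower R (𝒟.A i) (fA 𝒟 R' i)),
    fun i => (inferInstance : Algebra (𝒟.B i) (fB 𝒟 R' i)),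
    fun i => (inferInstance : Algebra R (fB 𝒟 R' i)),
    fun i => (inferInstance : IsScalarTower R R' (fB 𝒟 R' i)),
    fun i => (inferInstance : IsScalarTower R (𝒟.B i) (fB 𝒟 R' i)),
    fun i => (inferInstance : Algebra (𝒟.B i) (fA 𝒟 R' i)),
    fun i => (inferInstance : IsScalarTower (𝒟.B i) (𝒟.A i) (fA 𝒟 R' i)),
    fun i => (inferInstance : IsScalarTower (𝒟.B i) (fB 𝒟 R' i) (fA 𝒟 R' i)),
    fun i => (inferInstance : Algebra (𝒟.B i) (fA 𝒟 R' (i + 1))),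
    fun i => (inferInstance : IsScalarTower (𝒟.B i) (fB 𝒟 R' i) (fA 𝒟 R' (i + 1))),
    aSA, tSSA,
    fun i => (inferInstance : Module (𝒟.A i) (fM 𝒟 R' i)),
    fun i => (inferInstance : IsScalarTower (𝒟.A i) (fA 𝒟 R' i) (fM 𝒟 R' i)),
    fun i => fg 𝒟 R' i, rfl, rfl, tSAA, ?_, ?_, ?_⟩
  · intro x
    have h1 : hf.equiv.symm (f x) = (1 : S') ⊗ₜ[S] x := by
      rw [LinearEquiv.symm_apply_eq, hf.equiv_tmul, one_smul]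
    change hgS.equiv (LinearEquiv.baseChange S S' _ _ 𝒟.isoN (hf.equiv.symm (f x))) = _
    rw [h1]
    change hgS.equiv ((1 : S') ⊗ₜ[S] (𝒟.isoN x)) = _
    rw [hgS.equiv_tmul, one_smul]
    rfl
  · intro i h
    exact (inferInstance : IsScalarTower (𝒟.B i) (𝒟.A (i + 1)) (fA 𝒟 R' (i + 1)))
  · intro i
    exact ⟨isPushout_fA 𝒟 R' i, isPushout_fB 𝒟 R' i, isBaseChange_fg 𝒟 R' i, range_fα 𝒟 R' i⟩

end K261.CDevAsm
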