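import Groth.Agent.FlatMor.K261.SuppDim

/-!
# The families of rings of the base change of a complete dévissage

The pieces with index below the length are the base changes, the tail of the `A`'s is zero and the tail of
the `B`'s is the base ring.
-/

set_option autoImplicit false
universe u

namespace K261.CDevFam

open FlatCA TensorProduct

variable {R S : Type u} [CommRing R] [CommRing S] [Algebra R S] {N : Type u} [AddCommGroup N]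
  [Module S N] {p : Ideal R} [p.IsPrime] (𝒟 : CompleteDevissage R S N p)
  (R' : Type u) [CommRing R'] [Algebra R R']

/-- the rings carrying the modules -/
def fA (i : ℕ) : Type u := PLift (i < 𝒟.n) → (R' ⊗[R] 𝒟.A i)

/-- the smooth algebras -/
def fB (i : ℕ) : Type u :=
  (PLift (i < 𝒟.n) → (R' ⊗[R] 𝒟.B i)) × (PLift (¬ i < 𝒟.n) → R')

noncomputable instance (i : ℕ) : CommRing (fA 𝒟 R' i) :=
  inferInstanceAs (CommRing (PLift (i < 𝒟.n) → (R' ⊗[R] 𝒟.A i)))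

noncomputable instance (i : ℕ) : CommRing (fB 𝒟 R' i) :=
  inferInstanceAs (CommRing ((PLift (i < 𝒟.n) → (R' ⊗[R] 𝒟.B i)) × (PLift (¬ i < 𝒟.n) → R')))

noncomputable instance (i : ℕ) : Algebra R' (fA 𝒟 R' i) :=
  inferInstanceAs (Algebra R' (PLift (i < 𝒟.n) → (R' ⊗[R] 𝒟.A i)))

noncomputable instance (i : ℕ) : Algebra R' (fB 𝒟 R' i) :=
  inferInstanceAs (Algebra R' ((PLift (i < 𝒟.n) → (R' ⊗[R] 𝒟.B i)) × (PLift (¬ i < 𝒟.n) → R')))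

noncomputable instance (i : ℕ) : Algebra R (fA 𝒟 R' i) :=
  inferInstanceAs (Algebra R (PLift (i < 𝒟.n) → (R' ⊗[R] 𝒟.A i)))

noncomputable instance (i : ℕ) : Algebra R (fB 𝒟 R' i) :=
  inferInstanceAs (Algebra R ((PLift (i < 𝒟.n) → (R' ⊗[R] 𝒟.B i)) × (PLift (¬ i < 𝒟.n) → R')))

instance (i : ℕ) : IsScalarTower R R' (fA 𝒟 R' i) :=
  inferInstanceAs (IsScalarTower R R' (PLift (i < 𝒟.n) → (R' ⊗[R] 𝒟.A i)))

instance (i : ℕ) : IsScalarTower R R' (fB 𝒟 R' i) :=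
  inferInstanceAs (IsScalarTower R R'
    ((PLift (i < 𝒟.n) → (R' ⊗[R] 𝒟.B i)) × (PLift (¬ i < 𝒟.n) → R')))

noncomputable instance (i : ℕ) : Algebra (𝒟.A i) (fA 𝒟 R' i) :=
  (RingHom.pi (fun _ : PLift (i < 𝒟.n) =>
    (Algebra.TensorProduct.includeRight (R := R) (A := R') (B := 𝒟.A i)).toRingHom)).toAlgebra

theorem algebraMap_A_fA (i : ℕ) (x : 𝒟.A i) (h : PLift (i < 𝒟.n)) :
    algebraMap (𝒟.A i) (fA 𝒟 R' i) x h = (1 : R') ⊗ₜ[R] x := rfl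

theorem algebraMap_R'_fA (i : ℕ) (x : R') (h : PLift (i < 𝒟.n)) :
    algebraMap R' (fA 𝒟 R' i) x h = x ⊗ₜ[R] (1 : 𝒟.A i) := rfl

instance (i : ℕ) : IsScalarTower R (𝒟.A i) (fA 𝒟 R' i) := by
  refine IsScalarTower.of_algebraMap_eq fun x => funext fun h => ?_
  rw [algebraMap_A_fA]
  change algebraMap R (R' ⊗[R] 𝒟.A i) x = _
  exact ((Algebra.TensorProduct.includeRight (R := R) (A := R') (B := 𝒟.A i)).commutes x).symm

/-- the map on the base changes -/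
noncomputable def mapBA (i : ℕ) : (R' ⊗[R] 𝒟.B i) →ₐ[R'] (R' ⊗[R] 𝒟.A i) :=
  Algebra.TensorProduct.map (AlgHom.id R' R') (IsScalarTower.toAlgHom R (𝒟.B i) (𝒟.A i))

/-- the map on the base changes -/
noncomputable def mapBA' (i : ℕ) : (R' ⊗[R] 𝒟.B i) →ₐ[R'] (R' ⊗[R] 𝒟.A (i + 1)) :=
  Algebra.TensorProduct.map (AlgHom.id R' R') (IsScalarTower.toAlgHom R (𝒟.B i) (𝒟.A (i + 1)))

noncomputable instance (i : ℕ) : Algebra (fB 𝒟 R' i) (fA 𝒟 R' i) :=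
  (RingHom.pi (fun h : PLift (i < 𝒟.n) => (mapBA 𝒟 R' i).toRingHom.comp
    ((Pi.evalRingHom (fun _ : PLift (i < 𝒟.n) => (R' ⊗[R] 𝒟.B i)) h).comp
      (RingHom.fst _ (PLift (¬ i < 𝒟.n) → R'))))).toAlgebra

noncomputable instance (i : ℕ) : Algebra (fB 𝒟 R' i) (fA 𝒟 R' (i + 1)) :=
  (RingHom.pi (fun h : PLift (i + 1 < 𝒟.n) => (mapBA' 𝒟 R' i).toRingHom.comp
    ((Pi.evalRingHom (fun _ : PLift (i < 𝒟.n) => (R' ⊗[R] 𝒟.B i))
      ⟨lt_of_le_of_lt (Nat.le_succ i) h.down⟩).comp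
      (RingHom.fst _ (PLift (¬ i < 𝒟.n) → R'))))).toAlgebra

theorem algebraMap_fB_fA (i : ℕ) (x : fB 𝒟 R' i) (h : PLift (i < 𝒟.n)) :
    algebraMap (fB 𝒟 R' i) (fA 𝒟 R' i) x h = mapBA 𝒟 R' i (x.1 h) := rfl

theorem algebraMap_fB_fA' (i : ℕ) (x : fB 𝒟 R' i) (h : PLift (i + 1 < 𝒟.n)) :
    algebraMap (fB 𝒟 R' i) (fA 𝒟 R' (i + 1)) x h =
      mapBA' 𝒟 R' i (x.1 ⟨lt_of_le_of_lt (Nat.le_succ i) h.down⟩) := rfl

instance (i : ℕ) : IsScalarTower R' (fB 𝒟 R' i) (fA 𝒟 R' i) := by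
  refine IsScalarTower.of_algebraMap_eq fun x => funext fun h => ?_
  rw [algebraMap_fB_fA]
  exact ((mapBA 𝒟 R' i).commutes x).symm

instance (i : ℕ) : IsScalarTower R' (fB 𝒟 R' i) (fA 𝒟 R' (i + 1)) := by
  refine IsScalarTower.of_algebraMap_eq fun x => funext fun h => ?_
  rw [algebraMap_fB_fA']
  exact ((mapBA' 𝒟 R' i).commutes x).symm

/-- `B i → fB i` for `i` below the length -/
noncomputable instance (i : Fin 𝒟.n) : Algebra (𝒟.B i) (fB 𝒟 R' i) :=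
  (RingHom.prod (RingHom.pi (fun _ : PLift ((i : ℕ) < 𝒟.n) =>
    (Algebra.TensorProduct.includeRight (R := R) (A := R') (B := 𝒟.B i)).toRingHom))
    ({ toFun := fun _ _ => 0
       map_one' := funext fun h => absurd i.2 h.down
       map_mul' := fun _ _ => funext fun h => absurd i.2 h.down
       map_zero' := funext fun h => absurd i.2 h.down
       map_add' := fun _ _ => funext fun h => absurd i.2 h.down } :
      𝒟.B i →+* (PLift (¬ (i : ℕ) < 𝒟.n) → R'))).toAlgebra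

theorem algebraMap_B_fB (i : Fin 𝒟.n) (x : 𝒟.B i) (h : PLift ((i : ℕ) < 𝒟.n)) :
    (algebraMap (𝒟.B i) (fB 𝒟 R' i) x).1 h = (1 : R') ⊗ₜ[R] x := rfl

variable {𝒟} in
theorem fB_ext (i : Fin 𝒟.n) {x y : fB 𝒟 R' i} (h : x.1 ⟨i.2⟩ = y.1 ⟨i.2⟩) : x = y := by
  refine Prod.ext (funext fun h' => ?_) (funext fun h' => absurd i.2 h'.down)
  exact h

variable {𝒟} in
theorem fA_ext (i : Fin 𝒟.n) {x y : fA 𝒟 R' i} (h : x ⟨i.2⟩ = y ⟨i.2⟩) : x = y :=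
  funext fun _ => h

instance (i : Fin 𝒟.n) : IsScalarTower R (𝒟.B i) (fB 𝒟 R' i) := by
  refine IsScalarTower.of_algebraMap_eq fun x => fB_ext R' i ?_
  rw [algebraMap_B_fB]
  change algebraMap R (R' ⊗[R] 𝒟.B i) x = _
  exact ((Algebra.TensorProduct.includeRight (R := R) (A := R') (B := 𝒟.B i)).commutes x).symm

noncomputable instance (i : Fin 𝒟.n) : Algebra (𝒟.B i) (fA 𝒟 R' i) :=
  ((algebraMap (𝒟.A i) (fA 𝒟 R' i)).comp (algebraMap (𝒟.B i) (𝒟.A i))).toAlgebra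

noncomputable instance (i : Fin 𝒟.n) : Algebra (𝒟.B i) (fA 𝒟 R' (i + 1)) :=
  ((algebraMap (𝒟.A (i + 1)) (fA 𝒟 R' (i + 1))).comp (algebraMap (𝒟.B i) (𝒟.A (i + 1)))).toAlgebra

instance (i : Fin 𝒟.n) : IsScalarTower (𝒟.B i) (𝒟.A i) (fA 𝒟 R' i) :=
  IsScalarTower.of_algebraMap_eq' rfl

instance (i : Fin 𝒟.n) : IsScalarTower (𝒟.B i) (𝒟.A (i + 1)) (fA 𝒟 R' (i + 1)) :=
  IsScalarTower.of_algebraMap_eq' rfl

instance (i : Fin 𝒟.n) : IsScalarTower (𝒟.B i) (fB 𝒟 R' i) (fA 𝒟 R' i) := by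
  refine IsScalarTower.of_algebraMap_eq fun x => funext fun h => ?_
  rw [algebraMap_fB_fA, algebraMap_B_fB]
  change (1 : R') ⊗ₜ[R] (algebraMap (𝒟.B i) (𝒟.A i) x) = _
  rw [mapBA, Algebra.TensorProduct.map_tmul]
  rfl

instance (i : Fin 𝒟.n) : IsScalarTower (𝒟.B i) (fB 𝒟 R' i) (fA 𝒟 R' (i + 1)) := by
  refine IsScalarTower.of_algebraMap_eq fun x => funext fun h => ?_
  rw [algebraMap_fB_fA', algebraMap_B_fB]
  change (1 : R') ⊗ₜ[R] (algebraMap (𝒟.B i) (𝒟.A (i + 1)) x) = _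
  rw [mapBA', Algebra.TensorProduct.map_tmul]
  rfl

/-- the pieces below the length -/
noncomputable def equivA (i : Fin 𝒟.n) : (R' ⊗[R] 𝒟.A i) ≃ₐ[R'] fA 𝒟 R' i :=
  AlgEquiv.ofBijective
    (AlgHom.pi (fun _ : PLift ((i : ℕ) < 𝒟.n) => AlgHom.id R' (R' ⊗[R] 𝒟.A i)))
    ⟨fun _ _ h => congrFun h ⟨i.2⟩, fun y => ⟨y ⟨i.2⟩, fA_ext R' i rfl⟩⟩

theorem equivA_apply (i : Fin 𝒟.n) (x : R' ⊗[R] 𝒟.A i) (h : PLift ((i : ℕ) < 𝒟.n)) :
    equivA 𝒟 R' i x h = x := rfl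

/-- the pieces below the length -/
noncomputable def equivB (i : Fin 𝒟.n) : fB 𝒟 R' i ≃ₐ[R'] (R' ⊗[R] 𝒟.B i) :=
  AlgEquiv.ofBijective
    ((Pi.evalAlgHom R' (fun _ : PLift ((i : ℕ) < 𝒟.n) => R' ⊗[R] 𝒟.B i) ⟨i.2⟩).comp
      (AlgHom.fst R' _ (PLift (¬ (i : ℕ) < 𝒟.n) → R')))
    ⟨fun _ _ h => fB_ext R' i h, fun y => ⟨(fun _ => y, fun _ => 0), rfl⟩⟩

theorem equivB_apply (i : Fin 𝒟.n) (x : fB 𝒟 R' i) :
    equivB 𝒟 R' i x = x.1 ⟨i.2⟩ := rfl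

attribute [local instance] Algebra.TensorProduct.rightAlgebra

/-- the pushout squares -/
theorem isPushout_fA (i : Fin 𝒟.n) : Algebra.IsPushout R R' (𝒟.A i) (fA 𝒟 R' i) := by
  refine Algebra.IsPushout.of_equiv (equivA 𝒟 R' i) ?_
  ext x
  rfl

theorem isPushout_fB (i : Fin 𝒟.n) : Algebra.IsPushout R R' (𝒟.B i) (fB 𝒟 R' i) := by
  refine Algebra.IsPushout.of_equiv (equivB 𝒟 R' i).symm ?_
  refine RingHom.ext fun x => ?_
  rw [RingHom.comp_apply]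
  change (equivB 𝒟 R' i).symm _ = _
  rw [AlgEquiv.symm_apply_eq, equivB_apply, algebraMap_B_fB]
  rfl

/-- the tail of the smooth algebras -/
noncomputable def equivTail (i : ℕ) (hi : ¬ i < 𝒟.n) : fB 𝒟 R' i ≃ₐ[R'] R' :=
  AlgEquiv.ofBijective
    ((Pi.evalAlgHom R' (fun _ : PLift (¬ i < 𝒟.n) => R') ⟨hi⟩).comp
      (AlgHom.snd R' (PLift (i < 𝒟.n) → (R' ⊗[R] 𝒟.B i)) (PLift (¬ i < 𝒟.n) → R')))
    ⟨fun _ _ h => Prod.ext (funext fun h' => absurd h'.down hi) (funext fun _ => h),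
      fun y => ⟨(fun _ => 0, fun _ => y), rfl⟩⟩

theorem isPrime_tail (i : ℕ) (hi : ¬ i < 𝒟.n) (p' : Ideal R') [hp' : p'.IsPrime] :
    (p'.map (algebraMap R' (fB 𝒟 R' i))).IsPrime := by
  let e := equivTail 𝒟 R' i hi
  have h1 : algebraMap R' (fB 𝒟 R' i) = (e.symm : R' →+* fB 𝒟 R' i) :=
    RingHom.ext fun x => (e.symm.commutes x).symm
  rw [h1]
  exact Ideal.map_isPrime_of_equiv (e.symm : R' ≃+* fB 𝒟 R' i)

end K261.CDevFam
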