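import Groth.Agent.FlatMor.K261.CDevFam
import Groth.Agent.Flat2A.CDevPrime
import Groth.Agent.Flat2A.DimSmooth

/-!
# The modules and maps of the base change of a complete dévissage
-/

set_option autoImplicit false
universe u

namespace K261.CDevMod

open FlatCA TensorProduct K261.CDevFam
open Groth.Agent.Flat2B.PointBC Groth.Agent.Flat2B.FibreBC Groth.Agent.Flat2B.BCTools
open Groth.Agent.Flat2B.StepBC

/-- The map of fibre rings is injective for a flat algebra. -/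
theorem fibMap_injective {R R' X X' : Type u} [CommRing R] [CommRing R'] [Algebra R R']
    [CommRing X] [Algebra R X] [CommRing X'] [Algebra X X'] [Algebra R' X'] [Algebra R X']
    [IsScalarTower R X X'] [IsScalarTower R R' X'] [Algebra.IsPushout R X R' X']
    [Module.Flat R X] (p : Ideal R) [p.IsPrime] (p' : Ideal R') [p'.IsPrime]
    [hpp : p'.LiesOver p] : Function.Injective (fibMap (X₁ := X') (X := X) p p') := by
  let φ : p.ResidueField →ₐ[R] p'.ResidueField :=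
    Ideal.ResidueField.mapₐ p p' (Algebra.ofId R R') hpp.over
  have h1 : Function.Injective (LinearMap.rTensor X φ.toLinearMap) :=
    Module.Flat.rTensor_preserves_injective_linearMap _ φ.toRingHom.injective
  have h2 : ∀ z : p.Fiber X, fibMap (X₁ := X') (X := X) p p' z =
      K261.SuppDim.fibEquiv (S := X) (R := R) (S' := X') p' (LinearMap.rTensor X φ.toLinearMap z) := by
    intro z
    induction z using TensorProduct.induction_on with
    | zero => rw [map_zero, map_zero, map_zero]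
    | add a b ha hb => rw [map_add, map_add, map_add, ha, hb]
    | tmul k x =>
      rw [LinearMap.rTensor_tmul]
      refine (fibMap_tmul (X₁ := X') p p' k x).trans ?_
      change _ = (Algebra.TensorProduct.comm R' X' p'.ResidueField)
        ((Algebra.IsPushout.cancelBaseChangeAlg R X R' X' p'.ResidueField).symm
          (x ⊗ₜ φ k))
      rw [Algebra.IsPushout.cancelBaseChangeAlg_symm_tmul]
      rfl
  intro a b hab
  rw [h2, h2] at hab
  exact h1 ((K261.SuppDim.fibEquiv (S := X) (R := R) (S' := X') p').injective hab)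

/-- `p' B'` lies over `p B` (arbitrary residue extension). -/
theorem map_liesOver_map {R B R₁ B₁ : Type u} [CommRing R] [CommRing B]
    [CommRing R₁] [CommRing B₁] [Algebra R B] [Algebra R R₁] [Algebra R₁ B₁]
    [Algebra R B₁] [Algebra B B₁] [IsScalarTower R B B₁] [IsScalarTower R R₁ B₁]
    [Algebra.IsPushout R B R₁ B₁] (p : Ideal R) [p.IsPrime] (p₁ : Ideal R₁) [p₁.IsPrime]
    [p₁.LiesOver p] [Module.Flat R B] :
    (p₁.map (algebraMap R₁ B₁)).LiesOver (p.map (algebraMap R B)) := by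
  have : Module.Flat R₁ B₁ := flat_of_isPushout R B R₁ B₁
  refine ⟨?_⟩
  rw [← comap_bot_incl_of_flat p, ← comap_bot_incl_of_flat p₁, Ideal.under_def,
    Ideal.comap_comap, ← fibMap_comp_incl p p₁, ← Ideal.comap_comap]
  congr 1
  exact ((RingHom.injective_iff_ker_eq_bot _).1 (fibMap_injective (X' := B₁) (X := B) p p₁)).symm

theorem isPrime_map_of_smooth {R B : Type u} [CommRing R] [CommRing B] [Algebra R B]
    (hs : Algebra.Smooth R B) (hg : FlatCA.GeomIrredFibres R B) (p : Ideal R) [p.IsPrime] :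
    (p.map (algebraMap R B)).IsPrime :=
  Groth.Agent.Flat2A.CDevPrime.isPrime_map
    (Groth.Agent.Flat2A.DimSmooth.geomIntegral_of_smooth hg) p

section Fam

variable {R S : Type u} [CommRing R] [CommRing S] [Algebra R S] {N : Type u} [AddCommGroup N]
  [Module S N] {p : Ideal R} [p.IsPrime] (𝒟 : CompleteDevissage R S N p)
  (R' : Type u) [CommRing R'] [Algebra R R']

/-- the modules -/
def fM (i : ℕ) : Type u := fA 𝒟 R' i ⊗[𝒟.A i] 𝒟.M i

noncomputable instance (i : ℕ) : AddCommGroup (fM 𝒟 R' i) :=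
  inferInstanceAs (AddCommGroup (fA 𝒟 R' i ⊗[𝒟.A i] 𝒟.M i))

noncomputable instance (i : ℕ) : Module (fA 𝒟 R' i) (fM 𝒟 R' i) :=
  inferInstanceAs (Module (fA 𝒟 R' i) (fA 𝒟 R' i ⊗[𝒟.A i] 𝒟.M i))

noncomputable instance (i : ℕ) : Module (𝒟.A i) (fM 𝒟 R' i) :=
  inferInstanceAs (Module (𝒟.A i) (fA 𝒟 R' i ⊗[𝒟.A i] 𝒟.M i))

instance (i : ℕ) : IsScalarTower (𝒟.A i) (fA 𝒟 R' i) (fM 𝒟 R' i) :=
  inferInstanceAs (IsScalarTower (𝒟.A i) (fA 𝒟 R' i) (fA 𝒟 R' i ⊗[𝒟.A i] 𝒟.M i))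

noncomputable instance (i : ℕ) : Module (fB 𝒟 R' i) (fM 𝒟 R' i) :=
  Module.compHom _ (algebraMap (fB 𝒟 R' i) (fA 𝒟 R' i))

instance (i : ℕ) : IsScalarTower (fB 𝒟 R' i) (fA 𝒟 R' i) (fM 𝒟 R' i) :=
  IsScalarTower.of_algebraMap_smul fun _ _ => rfl

noncomputable instance (i : ℕ) : Module (fB 𝒟 R' i) (fM 𝒟 R' (i + 1)) :=
  Module.compHom _ (algebraMap (fB 𝒟 R' i) (fA 𝒟 R' (i + 1)))

instance (i : ℕ) : IsScalarTower (fB 𝒟 R' i) (fA 𝒟 R' (i + 1)) (fM 𝒟 R' (i + 1)) :=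
  IsScalarTower.of_algebraMap_smul fun _ _ => rfl

noncomputable instance (i : ℕ) : Module R' (fM 𝒟 R' i) :=
  Module.compHom _ (algebraMap R' (fA 𝒟 R' i))

instance (i : ℕ) : IsScalarTower R' (fA 𝒟 R' i) (fM 𝒟 R' i) :=
  IsScalarTower.of_algebraMap_smul fun _ _ => rfl

instance (i : ℕ) : IsScalarTower R' (fB 𝒟 R' i) (fM 𝒟 R' i) :=
  IsScalarTower.of_algebraMap_smul fun r m => by
    rw [← algebraMap_smul (fA 𝒟 R' i) (algebraMap R' (fB 𝒟 R' i) r) m,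
      ← IsScalarTower.algebraMap_apply, algebraMap_smul]

noncomputable instance (i : Fin 𝒟.n) : Module (𝒟.B i) (fM 𝒟 R' i) :=
  Module.compHom _ (algebraMap (𝒟.B i) (fA 𝒟 R' i))

instance (i : Fin 𝒟.n) : IsScalarTower (𝒟.B i) (fA 𝒟 R' i) (fM 𝒟 R' i) :=
  IsScalarTower.of_algebraMap_smul fun _ _ => rfl

instance (i : Fin 𝒟.n) : IsScalarTower (𝒟.B i) (𝒟.A i) (fM 𝒟 R' i) :=
  IsScalarTower.of_algebraMap_smul fun r m => by
    rw [← algebraMap_smul (fA 𝒟 R' i) (algebraMap (𝒟.B i) (𝒟.A i) r) m,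
      ← IsScalarTower.algebraMap_apply, algebraMap_smul]

instance (i : Fin 𝒟.n) : IsScalarTower (𝒟.B i) (fB 𝒟 R' i) (fM 𝒟 R' i) :=
  IsScalarTower.of_algebraMap_smul fun r m => by
    rw [← algebraMap_smul (fA 𝒟 R' i) (algebraMap (𝒟.B i) (fB 𝒟 R' i) r) m,
      ← IsScalarTower.algebraMap_apply, algebraMap_smul]

noncomputable instance (i : Fin 𝒟.n) : Module (𝒟.B i) (fM 𝒟 R' (i + 1)) :=
  Module.compHom _ (algebraMap (𝒟.B i) (fA 𝒟 R' (i + 1)))

instance (i : Fin 𝒟.n) : IsScalarTower (𝒟.B i) (fA 𝒟 R' (i + 1)) (fM 𝒟 R' (i + 1)) :=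
  IsScalarTower.of_algebraMap_smul fun _ _ => rfl

instance (i : Fin 𝒟.n) : IsScalarTower (𝒟.B i) (𝒟.A (i + 1)) (fM 𝒟 R' (i + 1)) :=
  IsScalarTower.of_algebraMap_smul fun r m => by
    rw [← algebraMap_smul (fA 𝒟 R' (i + 1)) (algebraMap (𝒟.B i) (𝒟.A (i + 1)) r) m,
      ← IsScalarTower.algebraMap_apply, algebraMap_smul]

instance (i : Fin 𝒟.n) : IsScalarTower (𝒟.B i) (fB 𝒟 R' i) (fM 𝒟 R' (i + 1)) :=
  IsScalarTower.of_algebraMap_smul fun r m => by
    rw [← algebraMap_smul (fA 𝒟 R' (i + 1)) (algebraMap (𝒟.B i) (fB 𝒟 R' i) r) m,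
      ← IsScalarTower.algebraMap_apply, algebraMap_smul]

/-- the base change maps -/
noncomputable def fg (i : ℕ) : 𝒟.M i →ₗ[𝒟.A i] fM 𝒟 R' i :=
  TensorProduct.mk (𝒟.A i) (fA 𝒟 R' i) (𝒟.M i) 1

theorem isBaseChange_fg (i : ℕ) : IsBaseChange (fA 𝒟 R' i) (fg 𝒟 R' i) :=
  TensorProduct.isBaseChange (𝒟.A i) (𝒟.M i) (fA 𝒟 R' i)

/-- the maps from finite free modules -/
noncomputable def fα (i : ℕ) : (Fin (𝒟.r i) → fB 𝒟 R' i) →ₗ[fB 𝒟 R' i] fM 𝒟 R' i :=
  Fintype.linearCombination (fB 𝒟 R' i) (fun j => fg 𝒟 R' i (𝒟.α i (Pi.single j 1)))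

/-- the base change map on the free modules -/
noncomputable def fβ (i : Fin 𝒟.n) : (Fin (𝒟.r i) → 𝒟.B i) →ₗ[𝒟.B i] (Fin (𝒟.r i) → fB 𝒟 R' i) :=
  (Algebra.linearMap (𝒟.B i) (fB 𝒟 R' i)).compLeft (Fin (𝒟.r i))

theorem isBaseChange_fβ (i : Fin 𝒟.n) : IsBaseChange (fB 𝒟 R' i) (fβ 𝒟 R' i) :=
  IsBaseChange.finitePow (Fin (𝒟.r i)) (IsBaseChange.linearMap (𝒟.B i) (fB 𝒟 R' i))

theorem fα_fβ (i : Fin 𝒟.n) (x : Fin (𝒟.r i) → 𝒟.B i) :
    fα 𝒟 R' i (fβ 𝒟 R' i x) = fg 𝒟 R' i (𝒟.α i x) := by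
  rw [fα, Fintype.linearCombination_apply]
  have h1 : 𝒟.α i x = ∑ j, x j • 𝒟.α i (Pi.single j 1) := by
    conv_lhs => rw [← Finset.univ_sum_single x]
    rw [map_sum]
    refine Finset.sum_congr rfl fun j _ => ?_
    rw [← map_smul, ← Pi.single_smul, smul_eq_mul, mul_one]
  rw [h1, map_sum]
  refine Finset.sum_congr rfl fun j _ => ?_
  have h2 : fβ 𝒟 R' i x j = algebraMap (𝒟.B i) (fB 𝒟 R' i) (x j) := rfl
  rw [h2, algebraMap_smul]
  exact ((((fg 𝒟 R' i).restrictScalars (𝒟.B i)).map_smul (x j) _)).symm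

theorem range_fα (i : Fin 𝒟.n) : LinearMap.range (fα 𝒟 R' i) =
    Submodule.span (fB 𝒟 R' i) ((fg 𝒟 R' i) '' (LinearMap.range (𝒟.α i) : Set (𝒟.M i))) := by
  apply le_antisymm
  · rintro _ ⟨x, rfl⟩
    rw [fα, Fintype.linearCombination_apply]
    refine Submodule.sum_mem _ fun j _ => Submodule.smul_mem _ _ (Submodule.subset_span ?_)
    exact ⟨_, ⟨_, rfl⟩, rfl⟩
  · rw [Submodule.span_le]
    rintro _ ⟨_, ⟨x, rfl⟩, rfl⟩
    exact ⟨_, fα_fβ 𝒟 R' i x⟩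

end Fam

end K261.CDevMod
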