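import Groth.Agent.FlatMor.K261.SuppDim

/-!
# Base change of a one-step dévissage
-/

set_option autoImplicit false
universe u

namespace K261.OneStepBC

open FlatCA TensorProduct
open Groth.Agent.Flat2B.PointBC Groth.Agent.Flat2B.FibreBC Groth.Agent.Flat2B.BCTools
open Groth.Agent.Flat2B.StepBC

theorem isOneStepDevissage_baseChange
    (R S : Type u) [CommRing R] [CommRing S] [Algebra R S] [Algebra.FiniteType R S]
    (N : Type u) [AddCommGroup N] [Module S N] [Module R N] [IsScalarTower R S N] [Module.Finite S N]
    (p : Ideal R) [p.IsPrime]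
    (C D G : Type u) [CommRing C] [CommRing D] [Algebra S C] [Algebra R C] [IsScalarTower R S C]
    [Algebra R D] [Algebra D C] [IsScalarTower R D C] [AddCommGroup G] [Module C G] [Module S G]
    [IsScalarTower S C G] (n : ℕ)
    (h : FlatCA.IsOneStepDevissage R S N p C D G n)
    (R' : Type u) [CommRing R'] [Algebra R R'] (p' : Ideal R') [p'.IsPrime] [p'.LiesOver p]
    (S' C' D' : Type u) [CommRing S'] [CommRing C'] [CommRing D']
    [Algebra R' S'] [Algebra R S'] [Algebra S S'] [IsScalarTower R R' S'] [IsScalarTower R S S']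
    [Algebra.IsPushout R R' S S']
    [Algebra R' C'] [Algebra R C'] [Algebra C C'] [IsScalarTower R R' C'] [IsScalarTower R C C']
    [Algebra.IsPushout R R' C C']
    [Algebra R' D'] [Algebra R D'] [Algebra D D'] [IsScalarTower R R' D'] [IsScalarTower R D D']
    [Algebra.IsPushout R R' D D']
    [Algebra S' C'] [IsScalarTower R' S' C'] [Algebra S C'] [IsScalarTower S S' C'] [IsScalarTower S C C']
    [Algebra D' C'] [IsScalarTower R' D' C'] [Algebra D C'] [IsScalarTower D D' C'] [IsScalarTower D C C']
    (N' : Type u) [AddCommGroup N'] [Module S' N'] [Module R' N'] [IsScalarTower R' S' N']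
    [Module S N'] [IsScalarTower S S' N'] (f : N →ₗ[S] N') (hf : IsBaseChange S' f)
    (G' : Type u) [AddCommGroup G'] [Module C' G'] [Module S' G'] [IsScalarTower S' C' G']
    [Module C G'] [IsScalarTower C C' G'] (g : G →ₗ[C] G') (hg : IsBaseChange C' g) :
    FlatCA.IsOneStepDevissage R' S' N' p' C' D' G' n := by
  obtain ⟨⟨e⟩, hsurj, hfp, hfin, hfinG, hsm, hirr, hdim⟩ := h
  have poS : Algebra.IsPushout R S R' S' := Algebra.IsPushout.symm inferInstance
  have poC : Algebra.IsPushout R C R' C' := Algebra.IsPushout.symm inferInstance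
  have poD : Algebra.IsPushout R D R' D' := Algebra.IsPushout.symm inferInstance
  have poSC : Algebra.IsPushout S C S' C' := pushout_right R S C R' S' C'
  have poDC : Algebra.IsPushout D C D' C' := pushout_right R D C R' D' C'
  let mSG' : Module S G' := Module.compHom G' (algebraMap S C')
  have t1 : IsScalarTower S C' G' := IsScalarTower.of_algebraMap_smul fun _ _ => rfl
  have t2 : IsScalarTower S C G' := IsScalarTower.of_algebraMap_smul fun r m => by
    rw [← algebraMap_smul C' (algebraMap S C r) m, ← IsScalarTower.algebraMap_apply,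
      algebraMap_smul]
  have t3 : IsScalarTower S S' G' := IsScalarTower.of_algebraMap_smul fun r m => by
    rw [← algebraMap_smul C' (algebraMap S S' r) m, ← IsScalarTower.algebraMap_apply,
      algebraMap_smul]
  have hgS : IsBaseChange S' (g.restrictScalars S) := isBaseChange_of_isPushout g hg
  refine ⟨⟨hf.equiv.symm ≪≫ₗ (LinearEquiv.baseChange S S' _ _ e) ≪≫ₗ hgS.equiv⟩,
    surjective_of_isPushout S C S' C' hsurj, finitePresentation_of_isPushout S C S' C',
    finite_of_isPushout D C D' C', Module.Finite.equiv hg.equiv,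
    smoothRelDim_of_isPushout R D R' D' n hsm, geomIrredFibres_of_isPushout R D R' D' hirr, ?_⟩
  rw [K261.SuppDim.supportDim_fiberMod_eq N N' f hf p p', hdim]

end K261.OneStepBC
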