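import Groth.Agent.FlatMor.K261.SuppDim

/-!
# Points of a pair `B → A` under base change along a point with trivial residue extension
-/

set_option autoImplicit false
universe u

namespace K261.PointsBC

open FlatCA TensorProduct
open Groth.Agent.Flat2B.PointBC Groth.Agent.Flat2B.FibreBC Groth.Agent.Flat2B.BCTools
open Groth.Agent.Flat2B.StepBC

theorem exists_points
    {R B A R' B' A' : Type u} [CommRing R] [CommRing B] [CommRing A]
    [CommRing R'] [CommRing B'] [CommRing A']
    [Algebra R B] [Algebra R A] [Algebra B A] [IsScalarTower R B A] [Algebra R R']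
    [Algebra R' A'] [Algebra R' B'] [Algebra B' A'] [IsScalarTower R' B' A']
    [Algebra R B'] [Algebra B B'] [IsScalarTower R B B'] [IsScalarTower R R' B']
    [Algebra.IsPushout R B R' B']
    [Algebra R A'] [Algebra A A'] [IsScalarTower R A A'] [IsScalarTower R R' A']
    [Algebra.IsPushout R A R' A']
    [Algebra B A'] [IsScalarTower B A A'] [IsScalarTower B B' A']
    {p : Ideal R} [p.IsPrime] {p' : Ideal R'} [p'.IsPrime] (hp : ResTriv p p')
    (qB : Ideal B) [qB.IsPrime] [qB.LiesOver p] (qA : Ideal A) [qA.IsPrime] [hAB : qA.LiesOver qB]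
    (huniq : ∀ (Q : Ideal A) [Q.IsPrime], Q.LiesOver qB → Q = qA) :
    ∃ (qB' : Ideal B') (qA' : Ideal A') (_ : qB'.IsPrime) (_ : qA'.IsPrime),
      ResTriv qB qB' ∧ ResTriv qA qA' ∧ qB'.LiesOver p' ∧ qA'.LiesOver p' ∧ qA'.LiesOver qB' ∧
      (∀ (Q : Ideal B') [Q.IsPrime], Q.LiesOver qB → Q.LiesOver p' → Q = qB') ∧
      (∀ (Q : Ideal A') [Q.IsPrime], Q.LiesOver qA → Q.LiesOver p' → Q = qA') ∧
      (∀ (Q : Ideal A') [Q.IsPrime], Q.LiesOver qB' → Q = qA') := by
  have hAR : qA.LiesOver p := Ideal.LiesOver.trans qA qB p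
  obtain ⟨qB₁, hqB₁, hqB₁r, hqB₁p, hqB₁u⟩ := exists_point (X₁ := B') hp qB
  obtain ⟨qA₁, hqA₁, hqA₁r, hqA₁p, hqA₁u⟩ := exists_point (X₁ := A') hp qA
  have hqB₁o := hqB₁r.liesOver
  have hqA₁o := hqA₁r.liesOver
  have hcomapB : ∀ Q : Ideal A', (Q.comap (algebraMap B' A')).comap (algebraMap B B') =
      (Q.comap (algebraMap A A')).comap (algebraMap B A) := fun Q => by
    rw [Ideal.comap_comap, Ideal.comap_comap, ← IsScalarTower.algebraMap_eq,
      ← IsScalarTower.algebraMap_eq]
  have hcomapRB : ∀ Q : Ideal A', (Q.comap (algebraMap B' A')).comap (algebraMap R' B') =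
      (Q.comap (algebraMap R' A')) := fun Q => by
    rw [Ideal.comap_comap, ← IsScalarTower.algebraMap_eq]
  have hover : qA₁.comap (algebraMap B' A') = qB₁ := by
    have : (qA₁.comap (algebraMap B' A')).IsPrime := Ideal.IsPrime.comap _
    refine hqB₁u _ ⟨?_⟩ ⟨?_⟩
    · rw [Ideal.under_def, hcomapB, ← Ideal.under_def A, ← hqA₁o.over, ← Ideal.under_def]
      exact hAB.over
    · rw [Ideal.under_def, hcomapRB]
      exact hqA₁p.over
  have hoverA : qA₁.LiesOver qB₁ := ⟨hover.symm⟩
  refine ⟨qB₁, qA₁, hqB₁, hqA₁, hqB₁r, hqA₁r, hqB₁p, hqA₁p, hoverA, hqB₁u, hqA₁u, ?_⟩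
  intro Q hQ hQB
  have h1 : (Q.comap (algebraMap A A')).IsPrime := Ideal.IsPrime.comap _
  have h2 : (Q.comap (algebraMap A A')) = qA := by
    refine huniq _ ⟨?_⟩
    rw [Ideal.under_def, ← hcomapB, ← Ideal.under_def B', ← hQB.over]
    exact hqB₁o.over
  refine hqA₁u Q ⟨h2.symm⟩ ⟨?_⟩
  rw [Ideal.under_def, ← hcomapRB, ← Ideal.under_def B', ← hQB.over]
  exact hqB₁p.over

/-- The local dimension of the fibre support of `M'` over `B'`. -/
theorem locDim_pair
    {R B A R' B' A' : Type u} [CommRing R] [CommRing B] [CommRing A]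
    [CommRing R'] [CommRing B'] [CommRing A']
    [Algebra R B] [Algebra R A] [Algebra B A] [IsScalarTower R B A] [Algebra R R']
    [Algebra R' A'] [Algebra R' B'] [Algebra B' A'] [IsScalarTower R' B' A']
    [Algebra R B'] [Algebra B B'] [IsScalarTower R B B'] [IsScalarTower R R' B']
    [Algebra.IsPushout R B R' B']
    [Algebra R A'] [Algebra A A'] [IsScalarTower R A A'] [IsScalarTower R R' A']
    [Algebra.IsPushout R A R' A']
    [Algebra B A'] [IsScalarTower B A A'] [IsScalarTower B B' A']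
    {M M' : Type u} [AddCommGroup M] [Module A M] [Module B M] [IsScalarTower B A M]
    [AddCommGroup M'] [Module A' M'] [Module B' M'] [IsScalarTower B' A' M']
    [Module A M'] [IsScalarTower A A' M'] (g : M →ₗ[A] M') (hg : IsBaseChange A' g)
    {p : Ideal R} [p.IsPrime] {p' : Ideal R'} [p'.IsPrime] (hp : ResTriv p p')
    (qB : Ideal B) [qB.IsPrime] [qB.LiesOver p] (qB' : Ideal B') [qB'.IsPrime] [qB'.LiesOver p']
    [qB'.LiesOver qB] (d : WithBot ℕ∞)
    (h : ∃ (x : PrimeSpectrum (p.Fiber B)) (hx : x ∈ Module.support (p.Fiber B) (fiberMod p B M)),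
      x.asIdeal = fiberIdeal p qB ∧
      FlatMor.localDim (Module.support (p.Fiber B) (fiberMod p B M)) ⟨x, hx⟩ = d) :
    ∃ (x : PrimeSpectrum (p'.Fiber B'))
      (hx : x ∈ Module.support (p'.Fiber B') (fiberMod p' B' M')),
      x.asIdeal = fiberIdeal p' qB' ∧
      FlatMor.localDim (Module.support (p'.Fiber B') (fiberMod p' B' M')) ⟨x, hx⟩ = d := by
  have hBA : Algebra.IsPushout B A B' A' := pushout_right R B A R' B' A'
  let mBM : Module B M' := Module.compHom M' (algebraMap B A')
  have t1 : IsScalarTower B A' M' := IsScalarTower.of_algebraMap_smul fun _ _ => rfl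
  have t2 : IsScalarTower B A M' := IsScalarTower.of_algebraMap_smul fun r m => by
    rw [← algebraMap_smul A' (algebraMap B A r) m, ← IsScalarTower.algebraMap_apply,
      algebraMap_smul]
  have t3 : IsScalarTower B B' M' := IsScalarTower.of_algebraMap_smul fun r m => by
    rw [← algebraMap_smul A' (algebraMap B B' r) m, ← IsScalarTower.algebraMap_apply,
      algebraMap_smul]
  have hgB : IsBaseChange B' (g.restrictScalars B) := isBaseChange_of_isPushout g hg
  exact locDim_bc hp (g.restrictScalars B) hgB qB qB' d h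

end K261.PointsBC
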