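import Groth.Agent.FlatMor.K261.ShrinkDim

/-!
# Standard shrinkings of one-step dévissages at a point
-/

set_option autoImplicit false
universe u

namespace K261.ShrinkCore

open FlatCA TensorProduct Groth.Agent
open Groth.Agent.Flat2B.EtaleNhd Groth.Agent.Flat2A.CDevLoc Groth.Agent.Flat2A.CDevBC
open Groth.Agent.Flat2B.BCTools

theorem resTriv_point {R R' : Type u} [CommRing R] [CommRing R'] [Algebra R R'] (M : Submonoid R)
    [IsLocalization M R'] (p : Ideal R) [p.IsPrime] (p' : Ideal R') [p'.IsPrime] [h : p'.LiesOver p] :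
    Groth.Agent.Flat2B.PointBC.ResTriv p p' :=
  ⟨h, (RingHom.surjectiveOnStalks_of_isLocalization M R').residueFieldMap_bijective _ _ _⟩

theorem shrink
    (R S : Type u) [CommRing R] [CommRing S] [Algebra R S] [Algebra.FiniteType R S]
    (N : Type u) [AddCommGroup N] [Module S N] [Module R N] [IsScalarTower R S N] [Module.Finite S N]
    (p : Ideal R) [p.IsPrime] (q : Ideal S) [q.IsPrime] [q.LiesOver p]
    (C D G : Type u) [CommRing C] [CommRing D] [Algebra S C] [Algebra R C] [IsScalarTower R S C]
    [Algebra R D] [Algebra D C] [IsScalarTower R D C] [AddCommGroup G] [Module C G] [Module S G]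
    [IsScalarTower S C G] (n : ℕ)
    (h : FlatCA.IsOneStepDevissage R S N p C D G n)
    (z : Ideal C) [z.IsPrime] (y : Ideal D) [y.IsPrime] [z.LiesOver q] [z.LiesOver y] [y.LiesOver p]
    (h1 : ∃ (ξ : PrimeSpectrum (p.Fiber S)) (hξ : ξ ∈ Module.support (p.Fiber S) (FlatCA.fiberMod p S N)),
      ξ.asIdeal = FlatCA.fiberIdeal p q ∧
      FlatMor.localDim (Module.support (p.Fiber S) (FlatCA.fiberMod p S N)) ⟨ξ, hξ⟩ = n)
    (h3 : ∀ (z₁ : Ideal C) [z₁.IsPrime], z₁.LiesOver y → z₁ = z)
    (h4 : FlatCA.PurelyTranscendental p y)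
    (g : R) (hX : S) (hZ : C) (hY : D) (hXq : hX ∉ q) (hZX : hZ = algebraMap S C hX)
    (gY : algebraMap R D g ∣ hY)
    (A B C' D' : Type u) [CommRing A] [CommRing B] [CommRing C'] [CommRing D']
    [Algebra R A] [IsLocalization.Away g A] [Algebra S B] [IsLocalization.Away hX B]
    [Algebra C C'] [IsLocalization.Away hZ C'] (hC : IsLocalization.Away (algebraMap D C hY) C')
    [Algebra D D'] [IsLocalization.Away hY D']
    [Algebra R B] [IsScalarTower R S B] [Algebra R C'] [IsScalarTower R C C'] [Algebra S C']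
    [IsScalarTower S C C'] [Algebra D C'] [IsScalarTower D C C'] [Algebra R D'] [IsScalarTower R D D']
    [Algebra A B] [IsScalarTower R A B] [Algebra A C'] [IsScalarTower R A C'] [Algebra A D']
    [IsScalarTower R A D'] [Algebra B C'] [IsScalarTower S B C'] [IsScalarTower A B C']
    [Algebra D' C'] [IsScalarTower D D' C'] [IsScalarTower A D' C']
    (N' : Type u) [AddCommGroup N'] [Module B N'] [Module S N'] [IsScalarTower S B N']
    [Module A N'] [IsScalarTower A B N'] (f : N →ₗ[S] N') (hf : IsBaseChange B f)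
    (G' : Type u) [AddCommGroup G'] [Module C' G'] [Module C G'] [IsScalarTower C C' G']
    [Module B G'] [IsScalarTower B C' G'] (fG : G →ₗ[C] G') (hfG : IsBaseChange C' fG)
    (hirr : GeomIrredFibres A D')
    [(p.map (algebraMap R A)).IsPrime] [(p.map (algebraMap R A)).LiesOver p]
    [(y.map (algebraMap D D')).IsPrime] [(y.map (algebraMap D D')).LiesOver y]
    [(y.map (algebraMap D D')).LiesOver (p.map (algebraMap R A))] :
    FlatCA.IsOneStepDevissage A B N' (p.map (algebraMap R A)) C' D' G' n ∧
    (∃ (ξ : PrimeSpectrum ((p.map (algebraMap R A)).Fiber B))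
      (hξ : ξ ∈ Module.support ((p.map (algebraMap R A)).Fiber B)
        (FlatCA.fiberMod (p.map (algebraMap R A)) B N')),
      ξ.asIdeal = FlatCA.fiberIdeal (p.map (algebraMap R A)) (q.map (algebraMap S B)) ∧
      FlatMor.localDim (Module.support ((p.map (algebraMap R A)).Fiber B)
        (FlatCA.fiberMod (p.map (algebraMap R A)) B N')) ⟨ξ, hξ⟩ = n) ∧
    (z.map (algebraMap C C')).LiesOver (q.map (algebraMap S B)) ∧
    (z.map (algebraMap C C')).LiesOver (y.map (algebraMap D D')) ∧
    (∀ (z₂ : Ideal C') [z₂.IsPrime], z₂.LiesOver (y.map (algebraMap D D')) →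
      z₂ = z.map (algebraMap C C')) ∧
    FlatCA.PurelyTranscendental (p.map (algebraMap R A)) (y.map (algebraMap D D')) := by
  subst hZX
  obtain ⟨⟨e⟩, hsurj, hfp, hfin, hfinG, hsm, -, hdim⟩ := h
  have hZz : algebraMap S C hX ∉ z := by
    intro hz
    apply hXq
    rw [Ideal.over_def z q]
    exact hz
  obtain ⟨hq1, hq2⟩ := liesOver_map_away (R' := B) (p := q) hX hXq
  obtain ⟨hz1, hz2⟩ := liesOver_map_away (R' := C') (p := z) _ hZz
  have hRA : Algebra.Etale R A := Algebra.Etale.of_isLocalizationAway g
  have hSB : Algebra.Etale S B := Algebra.Etale.of_isLocalizationAway hX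
  have hDD : Algebra.Etale D D' := Algebra.Etale.of_isLocalizationAway hY
  have : (q.map (algebraMap S B)).LiesOver (p.map (algebraMap R A)) :=
    Flat2A.CDevMain.liesOver_away (Submonoid.powers g) p q _ _
  have poSC : Algebra.IsPushout S C B C' := isPushout_away hX
  have poDC : Algebra.IsPushout D C D' C' := isPushout_away hY
  have poRD : Algebra.IsPushout R D' A D' := by
    have h1 : IsUnit (algebraMap R D' g) := by
      rw [IsScalarTower.algebraMap_apply R A D']
      exact (IsLocalization.Away.algebraMap_isUnit g).map _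
    have : IsLocalization.Away (algebraMap R D' g) D' :=
      IsLocalization.away_of_isUnit_of_bijective _ h1 Function.bijective_id
    exact isPushout_away g
  have hloc := K261.ShrinkDim.localDim_etale_support p (p.map (algebraMap R A)) N N' f hf q
    (q.map (algebraMap S B)) (n : WithBot ℕ∞) h1
  refine ⟨⟨?_, ?_, ?_, ?_, ?_, ?_, hirr, ?_⟩, hloc, ?_, ?_, ?_, ?_⟩
  · let mSG' : Module S G' := Module.compHom G' (algebraMap S C')
    have t1 : IsScalarTower S C' G' := IsScalarTower.of_algebraMap_smul fun _ _ => rfl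
    have t2 : IsScalarTower S C G' := IsScalarTower.of_algebraMap_smul fun r m => by
      rw [← algebraMap_smul C' (algebraMap S C r) m, ← IsScalarTower.algebraMap_apply,
        algebraMap_smul]
    have t3 : IsScalarTower S B G' := IsScalarTower.of_algebraMap_smul fun r m => by
      rw [← algebraMap_smul C' (algebraMap S B r) m, ← IsScalarTower.algebraMap_apply,
        algebraMap_smul]
    have hgS : IsBaseChange B (fG.restrictScalars S) := isBaseChange_of_isPushout fG hfG
    exact ⟨hf.equiv.symm ≪≫ₗ (LinearEquiv.baseChange S B _ _ e) ≪≫ₗ hgS.equiv⟩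
  · exact surjective_of_isPushout S C B C' hsurj
  · exact finitePresentation_of_isPushout S C B C'
  · exact finite_of_isPushout D C D' C'
  · exact Module.Finite.equiv hfG.equiv
  · exact smoothRelDim_baseChange (R := R) (B := D') (R' := A) (B' := D')
      (smoothRelDim_etale (R := R) (B := D) (B' := D') hsm)
  · refine K261.ShrinkDim.supportDim_localization p (p.map (algebraMap R A)) N N' f hf
      (Submonoid.powers hX) n hdim.le ?_
    obtain ⟨ξ, hξ, -, hξ'⟩ := hloc
    exact ⟨⟨ξ, hξ⟩, hξ'⟩
  · exact Flat2A.CDevMain.liesOver_away (Submonoid.powers hX) q z _ _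
  · exact Flat2A.CDevMain.liesOver_away (Submonoid.powers hY) y z _ _
  · intro z₂ _ hz₂
    have h5 : (z₂.comap (algebraMap C C')).IsPrime := Ideal.IsPrime.comap _
    have h6 : z₂.comap (algebraMap C C') = z := by
      refine h3 _ ⟨?_⟩
      rw [Ideal.under_def, Ideal.comap_comap, ← IsScalarTower.algebraMap_eq,
        IsScalarTower.algebraMap_eq D D' C', ← Ideal.comap_comap, ← Ideal.under_def D' z₂, ← hz₂.over]
      exact Ideal.over_def _ _
    rw [← h6, IsLocalization.map_comap (Submonoid.powers (algebraMap S C hX))]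
  · exact Flat2B.PointBC.purelyTranscendental_of_resTriv
      (resTriv_point (Submonoid.powers g) p _) (resTriv_point (Submonoid.powers hY) y _) h4

end K261.ShrinkCore
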