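import Groth.Agent.FlatMor.K261.SuppDim
import Groth.Agent.Flat2A.CDevMain

/-!
# Dimension of fibre supports under étale localization
-/

set_option autoImplicit false
universe u

namespace K261.ShrinkDim

open FlatCA TensorProduct Groth.Agent
open Groth.Agent.Flat2B.DimFibre Groth.Agent.Flat2B.DimFibre2 Groth.Agent.Flat2B.DimFibre3

section Top

open Topology

theorem topologicalKrullDim_subset {R : Type u} [CommRing R] (A : Set (PrimeSpectrum R))
    (hA : IsClosed A) : topologicalKrullDim A = Order.krullDim A := by
  have : QuasiSober A := hA.isClosedEmbedding_subtypeVal.quasiSober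
  rw [Desc.DimMap.topologicalKrullDim_eq]
  let i0 : Preorder A := specializationPreorder A
  rw [← @Order.krullDim_orderDual A i0]
  refine @Order.krullDim_eq_of_orderIso (OrderDual A) A (@OrderDual.instPreorder A i0)
    (Subtype.preorder _) ⟨OrderDual.ofDual, ?_⟩
  intro a b
  change (OrderDual.ofDual a).1 ≤ (OrderDual.ofDual b).1 ↔ _
  rw [PrimeSpectrum.le_iff_specializes]
  exact IsInducing.subtypeVal.specializes_iff

theorem localDim_le {X : Type*} [TopologicalSpace X] (x : X) :
    FlatMor.localDim X x ≤ topologicalKrullDim X := by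
  refine (iInf_le _ ⟨⊤, trivial⟩).trans ?_
  exact (IsHomeomorph.topologicalKrullDim_eq _ (Homeomorph.Set.univ X).isHomeomorph).le

end Top

section Et

attribute [local instance] Algebra.TensorProduct.rightAlgebra

variable {R S R' S' : Type u} [CommRing R] [CommRing S] [CommRing R'] [CommRing S']
  [Algebra R S] [Algebra R R'] [Algebra S S'] [Algebra R' S'] [Algebra R S']
  [IsScalarTower R R' S'] [IsScalarTower R S S'] [Algebra.Etale R R'] [Algebra.Etale S S']
  (p : Ideal R) [p.IsPrime] (p' : Ideal R') [p'.IsPrime] [p'.LiesOver p]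

/-- Étale invariance of the local dimension of the fibre support. -/
theorem localDim_etale_support
    (N : Type u) [AddCommGroup N] [Module S N] [Module.Finite S N]
    (N' : Type u) [AddCommGroup N'] [Module S' N'] [Module S N'] [IsScalarTower S S' N']
    (f : N →ₗ[S] N') (hf : IsBaseChange S' f)
    (q : Ideal S) [q.IsPrime] [q.LiesOver p] (q' : Ideal S') [q'.IsPrime] [q'.LiesOver q]
    [q'.LiesOver p'] (d : WithBot ℕ∞)
    (h : ∃ (x : PrimeSpectrum (p.Fiber S)) (hx : x ∈ Module.support (p.Fiber S) (fiberMod p S N)),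
      x.asIdeal = fiberIdeal p q ∧
      FlatMor.localDim (Module.support (p.Fiber S) (fiberMod p S N)) ⟨x, hx⟩ = d) :
    ∃ (x : PrimeSpectrum (p'.Fiber S'))
      (hx : x ∈ Module.support (p'.Fiber S') (fiberMod p' S' N')),
      x.asIdeal = fiberIdeal p' q' ∧
      FlatMor.localDim (Module.support (p'.Fiber S') (fiberMod p' S' N')) ⟨x, hx⟩ = d := by
  obtain ⟨x, hx, hxq, hn⟩ := h
  have hfinN' : Module.Finite S' N' := Module.Finite.of_surjective hf.equiv.toLinearMap
    hf.equiv.surjective
  have hsupp : Module.support S' N' =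
      PrimeSpectrum.comap (algebraMap S S') ⁻¹' (Module.support S N) := by
    ext P
    exact K261.SuppDim.mem_support_iff_of_isBaseChange f hf P
  have hxpt : x = pt p q := eq_pt_of_asIdeal p q x hxq
  have hqN : (⟨q, inferInstance⟩ : PrimeSpectrum S) ∈ Module.support S N := by
    rw [hxpt, mem_support_fiberMod_iff, comap_pt] at hx
    exact hx
  have hqF : (⟨q, inferInstance⟩ : PrimeSpectrum S) ∈ Fib p S (Module.support S N) :=
    ⟨(Ideal.over_def q p).symm, hqN⟩
  have h1 : FlatMor.localDim (Fib p S (Module.support S N)) ⟨_, hqF⟩ = d := by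
    rw [← hn]
    refine (localDim_support N ⟨x, hx⟩ ⟨_, hqF⟩ ?_).symm
    change PrimeSpectrum.comap (algebraMap S (p.Fiber S)) x = _
    rw [hxpt]
    exact comap_pt p q
  have hq'F : (⟨q', inferInstance⟩ : PrimeSpectrum S') ∈
      Fib p' S' (PrimeSpectrum.comap (algebraMap S S') ⁻¹' (Module.support S N)) := by
    refine ⟨(Ideal.over_def q' p').symm, ?_⟩
    have : PrimeSpectrum.comap (algebraMap S S') ⟨q', inferInstance⟩ = ⟨q, inferInstance⟩ :=
      PrimeSpectrum.ext (Ideal.over_def q' q).symm
    rw [Set.mem_preimage, this]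
    exact hqN
  have h2 : FlatMor.localDim (Fib p' S' (PrimeSpectrum.comap (algebraMap S S') ⁻¹'
      (Module.support S N))) ⟨_, hq'F⟩ = d := by
    rw [localDim_etale (R := R) (S := S) (R' := R') (S' := S') p p' _ Module.isClosed_support
      ⟨_, hq'F⟩, ← h1]
    congr 1
    exact Subtype.ext (PrimeSpectrum.ext (Ideal.over_def q' q).symm)
  have hset : Fib p' S' (PrimeSpectrum.comap (algebraMap S S') ⁻¹' (Module.support S N)) =
      Fib p' S' (Module.support S' N') := by rw [hsupp]
  have hq'F₂ : (⟨q', inferInstance⟩ : PrimeSpectrum S') ∈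
      Fib p' S' (Module.support S' N') := hset ▸ hq'F
  have h3 : FlatMor.localDim (Fib p' S' (Module.support S' N')) ⟨_, hq'F₂⟩ = d := by
    rw [← h2]
    exact (localDim_congr_set hset _ hq'F hq'F₂).symm
  have hpt : pt p' q' ∈ Module.support (p'.Fiber S') (fiberMod p' S' N') := by
    rw [mem_support_fiberMod_iff, comap_pt]
    exact hq'F₂.2
  refine ⟨pt p' q', hpt, pt_asIdeal p' q', ?_⟩
  rw [← h3]
  exact localDim_support N' ⟨pt p' q', hpt⟩ ⟨_, hq'F₂⟩ (comap_pt p' q')

/-- The dimension of the fibre support after localization, when the local dimension at a point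
already is the full dimension. -/
theorem supportDim_localization
    (N : Type u) [AddCommGroup N] [Module S N] [Module.Finite S N]
    (N' : Type u) [AddCommGroup N'] [Module S' N'] [Module S N'] [IsScalarTower S S' N']
    (f : N →ₗ[S] N') (hf : IsBaseChange S' f) (M : Submonoid S) [IsLocalization M S']
    (d : WithBot ℕ∞)
    (hle : Module.supportDim (p.Fiber S) (fiberMod p S N) ≤ d)
    (h : ∃ (x : Module.support (p'.Fiber S') (fiberMod p' S' N')),
      FlatMor.localDim (Module.support (p'.Fiber S') (fiberMod p' S' N')) x = d) :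
    Module.supportDim (p'.Fiber S') (fiberMod p' S' N') = d := by
  have hfinN' : Module.Finite S' N' := Module.Finite.of_surjective hf.equiv.toLinearMap
    hf.equiv.surjective
  have hfm : Module.Finite (p'.Fiber S') (fiberMod p' S' N') := finite_fiberMod p' N'
  apply le_antisymm
  · refine le_trans ?_ hle
    let Q : PrimeSpectrum (p'.Fiber S') → PrimeSpectrum S := fun x =>
      PrimeSpectrum.comap (algebraMap S S') (PrimeSpectrum.comap (algebraMap S' (p'.Fiber S')) x)
    have hQmono : Monotone Q := fun x y hxy => Ideal.comap_mono (Ideal.comap_mono hxy)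
    have hQinj : Function.Injective Q := by
      intro x y hxy
      exact (isEmbedding_comap p' S').injective
        (PrimeSpectrum.localization_comap_injective S' M hxy)
    have hex : ∀ x : Module.support (p'.Fiber S') (fiberMod p' S' N'),
        ∃ y : Module.support (p.Fiber S) (fiberMod p S N),
          PrimeSpectrum.comap (algebraMap S (p.Fiber S)) y.1 = Q x.1 := by
      rintro ⟨x, hx⟩
      have h1 := (mem_support_fiberMod_iff p' N' x).mp hx
      rw [K261.SuppDim.mem_support_iff_of_isBaseChange f hf] at h1
      have h2 : PrimeSpectrum.comap (algebraMap S' (p'.Fiber S')) x ∈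
          Fib p' S' (PrimeSpectrum.comap (algebraMap S S') ⁻¹' (Module.support S N)) :=
        ⟨Flat2B.DimFibre2.comap_comap p' S' x, h1⟩
      have h3 := comap_mem_fib (R := R) (S := S) (R' := R') (S' := S') p p' _ h2
      rw [← range_comap_val] at h3
      obtain ⟨y, hy⟩ := h3
      exact ⟨⟨y.1, (mem_support_fiberMod_iff p N y.1).mpr y.2⟩, hy⟩
    choose F hF using hex
    refine Order.krullDim_le_of_strictMono F ?_
    intro x y hxy
    refine lt_of_le_of_ne ?_ ?_
    · change (F x).1 ≤ (F y).1
      rw [← (PrimeSpectrum.preimageOrderIsoFiber R S ⟨p, inferInstance⟩).symm.le_iff_le]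
      change PrimeSpectrum.comap (algebraMap S (p.Fiber S)) (F x).1 ≤
        PrimeSpectrum.comap (algebraMap S (p.Fiber S)) (F y).1
      rw [hF, hF]
      exact hQmono hxy.le
    · intro h1
      have h2 : Q x.1 = Q y.1 := by rw [← hF, ← hF, h1]
      exact hxy.ne (Subtype.ext (hQinj h2))
  · obtain ⟨x, hx⟩ := h
    rw [← hx, Module.supportDim, ← topologicalKrullDim_subset _ Module.isClosed_support]
    exact localDim_le x

end Et

end K261.ShrinkDim
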