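import Groth.Agent.FlatMor.K261.ShrinkCore

/-!
# Standard shrinkings of one-step dévissages at a point: existence of the structures
-/

set_option autoImplicit false
universe u

namespace K261.ShrinkEx

open FlatMor FlatCA TensorProduct Groth.Agent
open Groth.Agent.Flat2B.EtaleNhd Groth.Agent.Flat2A.CDevLoc Groth.Agent.Flat2A.CDevBC
open Groth.Agent.Flat2B.BCTools

/-- The base open: geometric irreducibility after shrinking. -/
theorem exists_base {R D : Type u} [CommRing R] [CommRing D] [Algebra R D] (n : ℕ)
    (hsm : FlatCA.SmoothRelDim n R D) (hirr : FlatCA.GeomIrredFibres R D) (p : Ideal R) [p.IsPrime]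
    (y : Ideal D) [y.IsPrime] [y.LiesOver p] (w : D) (hw : w ∉ y) :
    ∃ g : R, g ∉ p ∧ ∀ (A D' : Type u) [CommRing A] [CommRing D'] [Algebra R A] [Algebra D D']
      [Algebra A D'] [Algebra R D'] [IsScalarTower R A D'] [IsScalarTower R D D']
      [IsLocalization.Away g A] [IsLocalization.Away (w * algebraMap R D g) D'],
      FlatCA.GeomIrredFibres A D' := by
  have hsm' : Algebra.Smooth R D := Flat2A.DimSmooth.smooth_of_smoothRelDim n hsm
  obtain ⟨g, hg, H⟩ := Flat2A.GILoc.exists_geomIntegral_away
    (Flat2A.DimSmooth.geomIntegral_of_smooth hirr) p y w hw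
  refine ⟨g, hg, ?_⟩
  intro A D' _ _ _ _ _ _ _ _ _ hL
  have hL' : IsLocalization.Away (algebraMap R D g * w) D' := by rw [mul_comm]; exact hL
  have := H g dvd_rfl hg A D'
  have h2 : AlgebraicGeometry.GeometricallyIntegral
    (AlgebraicGeometry.Spec.map (CommRingCat.ofHom (algebraMap A D'))) := this
  exact (inferInstance : AlgebraicGeometry.GeometricallyIrreducible
    (AlgebraicGeometry.Spec.map (CommRingCat.ofHom (algebraMap A D'))))

theorem exists_tail
    (R S : Type u) [CommRing R] [CommRing S] [Algebra R S] [Algebra.FiniteType R S]
    (N : Type u) [AddCommGroup N] [Module S N] [Module R N] [IsScalarTower R S N] [Module.Finite S N]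
    (p : Ideal R) [p.IsPrime] (q : Ideal S) [q.IsPrime] [q.LiesOver p]
    (C D G : Type u) [CommRing C] [CommRing D] [Algebra S C] [Algebra R C] [IsScalarTower R S C]
    [Algebra R D] [Algebra D C] [IsScalarTower R D C] [AddCommGroup G] [Module C G] [Module S G]
    [IsScalarTower S C G] (n : ℕ)
    (h : FlatCA.IsOneStepDevissage R S N p C D G n)
    (z : Ideal C) [z.IsPrime] (y : Ideal D) [y.IsPrime] [z.LiesOver q] [z.LiesOver y] [y.LiesOver p]
    (h1 : ∃ (ξ : PrimeSpectrum (p.Fiber S)) (hξ : ξ ∈ Module.support (p.Fiber S) (FlatCA.fiberMod p S N)),
      ξ.asIdeal = FlatCA.fiberIdeal p q ∧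
      FlatMor.localDim (Module.support (p.Fiber S) (FlatCA.fiberMod p S N)) ⟨ξ, hξ⟩ = n)
    (h3 : ∀ (z₁ : Ideal C) [z₁.IsPrime], z₁.LiesOver y → z₁ = z)
    (h4 : FlatCA.PurelyTranscendental p y)
    (g : R) (hX : S) (hZ : C) (hY : D) (hg : g ∉ p) (hXq : hX ∉ q) (hYy : hY ∉ y)
    (hZX : hZ = algebraMap S C hX)
    (gX : algebraMap R S g ∣ hX) (gY : algebraMap R D g ∣ hY)
    (hC : IsLocalization.Away (algebraMap D C hY) (Localization.Away hZ))
    (hirr : ∀ (A D' : Type u) [CommRing A] [CommRing D'] [Algebra R A] [Algebra D D']
      [Algebra A D'] [Algebra R D'] [IsScalarTower R A D'] [IsScalarTower R D D']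
      [IsLocalization.Away g A] [IsLocalization.Away hY D'], FlatCA.GeomIrredFibres A D') :
      ∃ (_ : Algebra (Localization.Away g) (Localization.Away hX)) (_ : IsScalarTower R (Localization.Away g) (Localization.Away hX))
        (_ : Algebra (Localization.Away g) (Localization.Away hZ)) (_ : IsScalarTower R (Localization.Away g) (Localization.Away hZ))
        (_ : Algebra (Localization.Away g) (Localization.Away hY)) (_ : IsScalarTower R (Localization.Away g) (Localization.Away hY))
        (_ : Algebra (Localization.Away hX) (Localization.Away hZ)) (_ : IsScalarTower S (Localization.Away hX) (Localization.Away hZ))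
        (_ : IsScalarTower (Localization.Away g) (Localization.Away hX) (Localization.Away hZ))
        (_ : Algebra (Localization.Away hY) (Localization.Away hZ)) (_ : IsScalarTower D (Localization.Away hY) (Localization.Away hZ))
        (_ : IsScalarTower (Localization.Away g) (Localization.Away hY) (Localization.Away hZ))
        (_ : Module (Localization.Away g) (LocalizedModule (Submonoid.powers hX) N)) (_ : IsScalarTower (Localization.Away g) (Localization.Away hX) (LocalizedModule (Submonoid.powers hX) N))
        (_ : Module (Localization.Away hX) (LocalizedModule (Submonoid.powers hZ) G)) (_ : IsScalarTower (Localization.Away hX) (Localization.Away hZ) (LocalizedModule (Submonoid.powers hZ) G))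
        (_ : (Ideal.map (algebraMap R (Localization.Away g)) p).IsPrime) (_ : (Ideal.map (algebraMap D (Localization.Away hY)) y).IsPrime) (_ : (Ideal.map (algebraMap D (Localization.Away hY)) y).LiesOver (Ideal.map (algebraMap R (Localization.Away g)) p)),
        FlatCA.IsOneStepDevissage (Localization.Away g) (Localization.Away hX) (LocalizedModule (Submonoid.powers hX) N) (Ideal.map (algebraMap R (Localization.Away g)) p) (Localization.Away hZ) (Localization.Away hY) (LocalizedModule (Submonoid.powers hZ) G) n ∧
        (∃ (ξ : PrimeSpectrum ((Ideal.map (algebraMap R (Localization.Away g)) p).Fiber (Localization.Away hX)))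
            (hξ : ξ ∈ Module.support ((Ideal.map (algebraMap R (Localization.Away g)) p).Fiber (Localization.Away hX)) (FlatCA.fiberMod (Ideal.map (algebraMap R (Localization.Away g)) p) (Localization.Away hX) (LocalizedModule (Submonoid.powers hX) N))),
          ξ.asIdeal = FlatCA.fiberIdeal (Ideal.map (algebraMap R (Localization.Away g)) p) (Ideal.map (algebraMap S (Localization.Away hX)) q) ∧
          FlatMor.localDim (Module.support ((Ideal.map (algebraMap R (Localization.Away g)) p).Fiber (Localization.Away hX)) (FlatCA.fiberMod (Ideal.map (algebraMap R (Localization.Away g)) p) (Localization.Away hX) (LocalizedModule (Submonoid.powers hX) N))) ⟨ξ, hξ⟩ = n) ∧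
        (Ideal.map (algebraMap C (Localization.Away hZ)) z).LiesOver (Ideal.map (algebraMap S (Localization.Away hX)) q) ∧ (Ideal.map (algebraMap C (Localization.Away hZ)) z).LiesOver (Ideal.map (algebraMap D (Localization.Away hY)) y) ∧
        (∀ (z₂ : Ideal (Localization.Away hZ)) [z₂.IsPrime], z₂.LiesOver (Ideal.map (algebraMap D (Localization.Away hY)) y) → z₂ = Ideal.map (algebraMap C (Localization.Away hZ)) z) ∧
        FlatCA.PurelyTranscendental (Ideal.map (algebraMap R (Localization.Away g)) p) (Ideal.map (algebraMap D (Localization.Away hY)) y) := by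
  have uX : IsUnit (algebraMap R (Localization.Away hX) g) := by
    rw [IsScalarTower.algebraMap_apply R S (Localization.Away hX)]
    exact isUnit_of_dvd_unit (map_dvd (algebraMap S (Localization.Away hX)) gX)
      (IsLocalization.Away.algebraMap_isUnit _)
  have uY : IsUnit (algebraMap R (Localization.Away hY) g) := by
    rw [IsScalarTower.algebraMap_apply R D (Localization.Away hY)]
    exact isUnit_of_dvd_unit (map_dvd (algebraMap D (Localization.Away hY)) gY)
      (IsLocalization.Away.algebraMap_isUnit _)
  have uZX : IsUnit (algebraMap S (Localization.Away hZ) hX) := by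
    rw [IsScalarTower.algebraMap_apply S C (Localization.Away hZ), ← hZX]
    exact IsLocalization.Away.algebraMap_isUnit _
  have uZY : IsUnit (algebraMap D (Localization.Away hZ) hY) := by
    rw [IsScalarTower.algebraMap_apply D C (Localization.Away hZ)]
    exact IsLocalization.Away.algebraMap_isUnit _
  let aAX : Algebra (Localization.Away g) (Localization.Away hX) :=
    (IsLocalization.Away.lift g uX).toAlgebra
  have tAX : IsScalarTower R (Localization.Away g) (Localization.Away hX) :=
    IsScalarTower.of_algebraMap_eq fun r => (IsLocalization.Away.lift_eq g uX r).symm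
  let aAY : Algebra (Localization.Away g) (Localization.Away hY) :=
    (IsLocalization.Away.lift g uY).toAlgebra
  have tAY : IsScalarTower R (Localization.Away g) (Localization.Away hY) :=
    IsScalarTower.of_algebraMap_eq fun r => (IsLocalization.Away.lift_eq g uY r).symm
  let aXZ : Algebra (Localization.Away hX) (Localization.Away hZ) :=
    (IsLocalization.Away.lift hX uZX).toAlgebra
  have tXZ : IsScalarTower S (Localization.Away hX) (Localization.Away hZ) :=
    IsScalarTower.of_algebraMap_eq fun r => (IsLocalization.Away.lift_eq hX uZX r).symm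
  let aYZ : Algebra (Localization.Away hY) (Localization.Away hZ) :=
    (IsLocalization.Away.lift hY uZY).toAlgebra
  have tYZ : IsScalarTower D (Localization.Away hY) (Localization.Away hZ) :=
    IsScalarTower.of_algebraMap_eq fun r => (IsLocalization.Away.lift_eq hY uZY r).symm
  let aAZ : Algebra (Localization.Away g) (Localization.Away hZ) :=
    ((algebraMap (Localization.Away hX) (Localization.Away hZ)).comp
      (algebraMap (Localization.Away g) (Localization.Away hX))).toAlgebra
  have tAXZ : IsScalarTower (Localization.Away g) (Localization.Away hX) (Localization.Away hZ) :=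
    IsScalarTower.of_algebraMap_eq fun r => rfl
  have tAZ : IsScalarTower R (Localization.Away g) (Localization.Away hZ) := by
    refine IsScalarTower.of_algebraMap_eq fun r => ?_
    rw [IsScalarTower.algebraMap_apply (Localization.Away g) (Localization.Away hX)
      (Localization.Away hZ), ← IsScalarTower.algebraMap_apply R (Localization.Away g)
      (Localization.Away hX), IsScalarTower.algebraMap_apply R S (Localization.Away hX),
      ← IsScalarTower.algebraMap_apply S (Localization.Away hX) (Localization.Away hZ),
      IsScalarTower.algebraMap_apply S C (Localization.Away hZ),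
      ← IsScalarTower.algebraMap_apply R S C]
    exact IsScalarTower.algebraMap_apply R C _ r
  have tAYZ : IsScalarTower (Localization.Away g) (Localization.Away hY) (Localization.Away hZ) := by
    refine IsScalarTower.of_algebraMap_eq' ?_
    refine IsLocalization.ringHom_ext (Submonoid.powers g) ?_
    ext r
    simp only [RingHom.comp_apply]
    rw [← IsScalarTower.algebraMap_apply R (Localization.Away g) (Localization.Away hZ),
      ← IsScalarTower.algebraMap_apply R (Localization.Away g) (Localization.Away hY),
      IsScalarTower.algebraMap_apply R D (Localization.Away hY),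
      ← IsScalarTower.algebraMap_apply D (Localization.Away hY) (Localization.Away hZ),
      IsScalarTower.algebraMap_apply D C (Localization.Away hZ),
      ← IsScalarTower.algebraMap_apply R D C]
    exact IsScalarTower.algebraMap_apply R C _ r
  let mAN : Module (Localization.Away g) (LocalizedModule (Submonoid.powers hX) N) :=
    Module.compHom _ (algebraMap (Localization.Away g) (Localization.Away hX))
  have tAN : IsScalarTower (Localization.Away g) (Localization.Away hX)
      (LocalizedModule (Submonoid.powers hX) N) := IsScalarTower.of_algebraMap_smul fun _ _ => rfl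
  let mXG : Module (Localization.Away hX) (LocalizedModule (Submonoid.powers hZ) G) :=
    Module.compHom _ (algebraMap (Localization.Away hX) (Localization.Away hZ))
  have tXG : IsScalarTower (Localization.Away hX) (Localization.Away hZ)
      (LocalizedModule (Submonoid.powers hZ) G) := IsScalarTower.of_algebraMap_smul fun _ _ => rfl
  obtain ⟨hp1, hp2⟩ := liesOver_map_away (R' := Localization.Away g) (p := p) g hg
  obtain ⟨hy1, hy2⟩ := liesOver_map_away (R' := Localization.Away hY) (p := y) hY hYy
  have hyp : (y.map (algebraMap D (Localization.Away hY))).LiesOver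
      (p.map (algebraMap R (Localization.Away g))) :=
    Flat2A.CDevMain.liesOver_away (Submonoid.powers g) p y _ _
  refine ⟨aAX, tAX, aAZ, tAZ, aAY, tAY, aXZ, tXZ, tAXZ, aYZ, tYZ, tAYZ, mAN, tAN, mXG, tXG, hp1, hy1,
    hyp, ?_⟩
  exact ShrinkCore.shrink R S N p q C D G n h z y h1 h3 h4 g hX hZ hY hXq hZX gY
    (Localization.Away g) (Localization.Away hX) (Localization.Away hZ) (Localization.Away hY) hC
    (LocalizedModule (Submonoid.powers hX) N)
    (LocalizedModule.mkLinearMap (Submonoid.powers hX) N)
    (IsLocalizedModule.isBaseChange (Submonoid.powers hX) _ _)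
    (LocalizedModule (Submonoid.powers hZ) G)
    (LocalizedModule.mkLinearMap (Submonoid.powers hZ) G)
    (IsLocalizedModule.isBaseChange (Submonoid.powers hZ) _ _)
    (hirr (Localization.Away g) (Localization.Away hY))

end K261.ShrinkEx
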