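import Groth.Agent.Flat2C.SupportBaseChange
import Groth.Agent.Flat2G.FibDim2
import Groth.Agent.Flat2B.StepBC
import Mathlib.RingTheory.KrullDimension.NonZeroDivisors

/-!
# The dimension of the support of the fibre module is invariant under base change
-/

set_option autoImplicit false
universe u

namespace K261.SuppDim

open FlatCA TensorProduct
open Groth.Agent.Flat2B.PointBC Groth.Agent.Flat2B.FibreBC Groth.Agent.Flat2B.BCTools

/-- dimension of `V(I)` in terms of a surjection with kernel `I` -/
theorem krullDim_zeroLocus_ker {A B : Type*} [CommRing A] [CommRing B] (φ : A →+* B)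
    (hφ : Function.Surjective φ) :
    Order.krullDim (PrimeSpectrum.zeroLocus (RingHom.ker φ : Set A)) = ringKrullDim B := by
  rw [← ringKrullDim_quotient]
  exact ringKrullDim_eq_of_ringEquiv (RingHom.quotientKerEquivOfSurjective hφ)

/-- For a field `K` over `R`: the dimension of the preimage of `V(I)` in `Spec (K ⊗[R] S)`. -/
theorem krullDim_comap_preimage {R S K : Type u} [CommRing R] [CommRing S] [Algebra R S]
    [CommRing K] [Algebra R K] (I : Ideal S) :
    Order.krullDim ((PrimeSpectrum.comap
      (Algebra.TensorProduct.includeRight (R := R) (A := K) (B := S)).toRingHom) ⁻¹'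
        (PrimeSpectrum.zeroLocus (I : Set S))) = ringKrullDim (K ⊗[R] (S ⧸ I)) := by
  rw [PrimeSpectrum.preimage_comap_zeroLocus]
  have h1 : Function.Surjective (Ideal.Quotient.mkₐ R I) := Ideal.Quotient.mk_surjective
  have h2 := Algebra.TensorProduct.lTensor_ker (R := R) (A := K) (Ideal.Quotient.mkₐ R I) h1
  have h3 : Function.Surjective (Algebra.TensorProduct.map (AlgHom.id R K) (Ideal.Quotient.mkₐ R I)) := by
    intro x
    induction x using TensorProduct.induction_on with
    | zero => exact ⟨0, map_zero _⟩
    | tmul a b =>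
      obtain ⟨c, rfl⟩ := h1 b
      exact ⟨a ⊗ₜ c, by simp⟩
    | add a b ha hb =>
      obtain ⟨a', rfl⟩ := ha
      obtain ⟨b', rfl⟩ := hb
      exact ⟨a' + b', map_add _ _ _⟩
  have h4 := krullDim_zeroLocus_ker
    (Algebra.TensorProduct.map (AlgHom.id R K) (Ideal.Quotient.mkₐ R I)).toRingHom h3
  rw [← h4]
  have h5 : PrimeSpectrum.zeroLocus (⇑(Algebra.TensorProduct.includeRight (R := R) (A := K) (B := S)).toRingHom ''
      (I : Set S)) = PrimeSpectrum.zeroLocus (RingHom.ker
        (Algebra.TensorProduct.map (AlgHom.id R K) (Ideal.Quotient.mkₐ R I)).toRingHom : Set (K ⊗[R] S)) := by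
    rw [← PrimeSpectrum.zeroLocus_span]
    congr 1
    have h6 : RingHom.ker (Ideal.Quotient.mkₐ R I) = I := Ideal.Quotient.mkₐ_ker R I
    have h7 : RingHom.ker (Algebra.TensorProduct.map (AlgHom.id R K)
        (Ideal.Quotient.mkₐ R I)).toRingHom = RingHom.ker (Algebra.TensorProduct.map (AlgHom.id R K)
        (Ideal.Quotient.mkₐ R I)) := rfl
    rw [h7, h2, h6]
    rfl
  rw [h5]

section

variable {R R' S S' : Type u} [CommRing R] [CommRing S] [Algebra R S] [CommRing R'] [Algebra R R']
  [CommRing S'] [Algebra R' S'] [Algebra R S'] [Algebra S S'] [IsScalarTower R R' S']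
  [IsScalarTower R S S'] [Algebra.IsPushout R S R' S']

attribute [local instance] Algebra.TensorProduct.rightAlgebra

theorem mem_support_fiberMod_iff {R S : Type u} [CommRing R] [CommRing S] [Algebra R S]
    (N : Type u) [AddCommGroup N] [Module S N] [Module.Finite S N]
    (p : Ideal R) [p.IsPrime] (x : PrimeSpectrum (p.Fiber S)) :
    x ∈ Module.support (p.Fiber S) (fiberMod p S N) ↔
      PrimeSpectrum.comap (incl (X := S) p) x ∈ Module.support S N :=
  Groth.Agent.Flat2C.SupportBaseChange.mem_support_baseChange_iff N x

/-- support of a base change, for a general `IsBaseChange` -/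
theorem mem_support_iff_of_isBaseChange {A A' : Type u} [CommRing A] [CommRing A'] [Algebra A A']
    {M M' : Type u} [AddCommGroup M] [Module A M] [Module.Finite A M] [AddCommGroup M']
    [Module A' M'] [Module A M'] [IsScalarTower A A' M'] (f : M →ₗ[A] M') (hf : IsBaseChange A' f)
    (x : PrimeSpectrum A') :
    x ∈ Module.support A' M' ↔ PrimeSpectrum.comap (algebraMap A A') x ∈ Module.support A M := by
  rw [← hf.equiv.support_eq]
  exact Groth.Agent.Flat2C.SupportBaseChange.mem_support_baseChange_iff M x

theorem supportDim_fiberMod {R S : Type u} [CommRing R] [CommRing S] [Algebra R S]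
    (N : Type u) [AddCommGroup N] [Module S N] [Module.Finite S N]
    (p : Ideal R) [p.IsPrime] :
    Module.supportDim (p.Fiber S) (fiberMod p S N) =
      ringKrullDim (p.ResidueField ⊗[R] (S ⧸ Module.annihilator S N)) := by
  rw [← krullDim_comap_preimage (K := p.ResidueField) (Module.annihilator S N)]
  have : Module.support (p.Fiber S) (fiberMod p S N) = ((PrimeSpectrum.comap
      (Algebra.TensorProduct.includeRight (R := R) (A := p.ResidueField) (B := S)).toRingHom) ⁻¹'
        (PrimeSpectrum.zeroLocus (Module.annihilator S N : Set S))) := by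
    ext x
    rw [mem_support_fiberMod_iff, Module.support_eq_zeroLocus]
    rfl
  rw [Module.supportDim, this]

/-- the fibre of the base change over `p'` as a base change of `S` -/
noncomputable def fibEquiv (p' : Ideal R') [p'.IsPrime] :
    (p'.ResidueField ⊗[R] S) ≃+* p'.Fiber S' :=
  (Algebra.TensorProduct.comm R p'.ResidueField S).toRingEquiv.trans <|
    (Algebra.IsPushout.cancelBaseChangeAlg R S R' S' p'.ResidueField).symm.toRingEquiv.trans <|
      (Algebra.TensorProduct.comm R' S' p'.ResidueField).toRingEquiv

theorem fibEquiv_incl (p' : Ideal R') [p'.IsPrime] (s : S) :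
    fibEquiv (S' := S') p' (Algebra.TensorProduct.includeRight (R := R) (A := p'.ResidueField) s) =
      incl p' (algebraMap S S' s) := by
  change (Algebra.TensorProduct.comm R' S' p'.ResidueField)
    ((Algebra.IsPushout.cancelBaseChangeAlg R S R' S' p'.ResidueField).symm (s ⊗ₜ 1)) = _
  rw [Algebra.IsPushout.cancelBaseChangeAlg_symm_tmul]
  rfl

/-- The dimension of the support of the fibre module after a base change. -/
theorem supportDim_fiberMod_bc (N : Type u) [AddCommGroup N] [Module S N] [Module.Finite S N]
    (N' : Type u) [AddCommGroup N'] [Module S' N'] [Module S N'] [IsScalarTower S S' N']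
    (f : N →ₗ[S] N') (hf : IsBaseChange S' f) (p' : Ideal R') [p'.IsPrime] :
    Module.supportDim (p'.Fiber S') (fiberMod p' S' N') =
      ringKrullDim (p'.ResidueField ⊗[R] (S ⧸ Module.annihilator S N)) := by
  have hfin : Module.Finite S' N' := Module.Finite.equiv hf.equiv
  rw [← krullDim_comap_preimage (K := p'.ResidueField) (Module.annihilator S N), Module.supportDim]
  let E := PrimeSpectrum.comapEquiv (fibEquiv (S := S) (R := R) (S' := S') p')
  have key : ∀ x : PrimeSpectrum (p'.Fiber S'), x ∈ Module.support (p'.Fiber S') (fiberMod p' S' N') ↔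
      E.symm x ∈ ((PrimeSpectrum.comap
      (Algebra.TensorProduct.includeRight (R := R) (A := p'.ResidueField) (B := S)).toRingHom) ⁻¹'
        (PrimeSpectrum.zeroLocus (Module.annihilator S N : Set S))) := by
    intro x
    rw [mem_support_fiberMod_iff, mem_support_iff_of_isBaseChange f hf, Module.support_eq_zeroLocus,
      Set.mem_preimage]
    have : PrimeSpectrum.comap (algebraMap S S') (PrimeSpectrum.comap (incl (X := S') p') x) =
        PrimeSpectrum.comap
      (Algebra.TensorProduct.includeRight (R := R) (A := p'.ResidueField) (B := S)).toRingHom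
        (E.symm x) := by
      apply PrimeSpectrum.ext
      ext y
      change incl p' (algebraMap S S' y) ∈ x.asIdeal ↔
        fibEquiv (S := S) (R := R) (S' := S') p' (Algebra.TensorProduct.includeRight y) ∈ x.asIdeal
      rw [fibEquiv_incl]
    rw [this]
  exact Order.krullDim_eq_of_orderIso
    { toEquiv := E.symm.toEquiv.subtypeEquiv key
      map_rel_iff' := fun {a b} => E.symm.map_rel_iff (a := a.1) (b := b.1) }

/-- **Base change invariance** of the dimension of the support of the fibre module. -/
theorem supportDim_fiberMod_eq [Algebra.FiniteType R S]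
    (N : Type u) [AddCommGroup N] [Module S N] [Module.Finite S N]
    (N' : Type u) [AddCommGroup N'] [Module S' N'] [Module S N'] [IsScalarTower S S' N']
    (f : N →ₗ[S] N') (hf : IsBaseChange S' f) (p : Ideal R) [p.IsPrime] (p' : Ideal R') [p'.IsPrime]
    [hpp : p'.LiesOver p] :
    Module.supportDim (p'.Fiber S') (fiberMod p' S' N') =
      Module.supportDim (p.Fiber S) (fiberMod p S N) := by
  rw [supportDim_fiberMod_bc (R := R) N N' f hf p', supportDim_fiberMod]
  let _ : Algebra p.ResidueField p'.ResidueField :=
    (Ideal.ResidueField.mapₐ p p' (Algebra.ofId R R') hpp.over).toRingHom.toAlgebra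
  have : IsScalarTower R p.ResidueField p'.ResidueField := by
    refine IsScalarTower.of_algebraMap_eq fun x => ?_
    exact ((Ideal.ResidueField.mapₐ p p' (Algebra.ofId R R') hpp.over).commutes x).symm
  rw [← Groth.Agent.Flat2G.FibDim.ringKrullDim_baseChange_field p.ResidueField p'.ResidueField
    (p.ResidueField ⊗[R] (S ⧸ Module.annihilator S N))]
  exact ringKrullDim_eq_of_ringEquiv
    (Algebra.TensorProduct.cancelBaseChange R p.ResidueField p.ResidueField p'.ResidueField
      (S ⧸ Module.annihilator S N)).symm.toRingEquiv

end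

end K261.SuppDim
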