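import Groth.Agent.KSix.K239.GradedPush
import Groth.Agent.PerfC.DTens
import Groth.Agent.PerfC.LTBound
import Groth.Agent.Cohder.RelPCMon
import Groth.Agent.Dcoh.ClosedProjD
import Groth.Agent.S0960
import Groth.Agent.S0952
import Groth.Agent.Dcoh.DerPull2

/-!
# Pseudo-coherence of the direct image of a derived tensor product along a closed immersion

`i : Z ⟶ X` a closed immersion, `P` a K-flat complex on `Z` acyclic above `d` with `i_* P` `n`-pseudo-coherent,
`G ∈ D(O_Z)` `a`-pseudo-coherent and acyclic above `b`. Then `i_*(G ⊗ᴸ P)` is `max (a + d) (b + n)`-pseudo-coherent.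
-/

set_option autoImplicit false
universe u

open CategoryTheory CategoryTheory.Limits AlgebraicGeometry DerivedCategory Pretriangulated
open Groth.Agent Groth.Agent.PerfA Groth.Agent.PerfA.Restrict Groth.Agent.PerfC.PcLocal
open Groth.Agent.PerfC.DerAux Groth.Agent.PerfC.PcShift
open Groth.Agent.PerfC.ClosedPush Groth.Agent.PerfC.PCCover Groth.Agent.PerfC.PcPush
open Groth.Agent.PerfC.ClosedImmPc K239.GradedPush
open Groth.Agent.PerfC.IsoLocus

attribute [local instance] HasDerivedCategory.standard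

namespace K261.TensPush

/-- `Φ(O_Z)` `n`-pseudo-coherent gives `Φ(O_Z^r[-p])` `(n + p)`-pseudo-coherent. -/
lemma pc_map_single {X Z : Scheme.{u}} {Φ : DCoh.D Z ⥤ DCoh.D X} (hΦ : IsTriang Φ) {n : ℤ}
    (hO : DCoh.IsPseudoCoherentD n (Φ.obj (DCoh.inD Z (Coh.structureModule Z)))) (r : ℕ) {p m : ℤ}
    (hm : n + p ≤ m) :
    DCoh.IsPseudoCoherentD m (Φ.obj ((singleFunctor Z.Modules p).obj (FlatMod.freeMod Z r))) := by
  have hadd := hΦ.additive
  have key : DCoh.IsPseudoCoherentD n (Φ.obj (DCoh.inD Z (FlatMod.freeMod Z r))) := by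
    refine PerfC.SigmaInd.sigma_fin (fun A => DCoh.IsPseudoCoherentD n
      (Φ.obj (DCoh.inD Z A))) ?_ ?_ ?_ r _ (fun _ => hO)
    · intro A B e h
      exact pc_of_iso (Φ.mapIso ((singleFunctor _ 0).mapIso e)) h
    · intro A hA
      exact pc_of_isZero (Functor.map_isZero _ (Functor.map_isZero _ hA)) n
    · intro A B hA hB
      have : PreservesBinaryBiproducts (singleFunctor Z.Modules 0 ⋙ Φ) :=
        preservesBinaryBiproducts_of_preservesBiproducts _
      exact pc_of_iso ((singleFunctor Z.Modules 0 ⋙ Φ).mapBiprod A B).symm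
        (pc_biprod hA hB)
  obtain ⟨_, _⟩ := hΦ
  refine pc_mono hm ?_
  refine pc_of_iso (Φ.mapIso ((singleShift p).app (FlatMod.freeMod Z r))) ?_
  refine pc_of_iso ((Φ.commShiftIso (-p)).app (DCoh.inD Z (FlatMod.freeMod Z r))).symm ?_
  exact pc_shift (m := n) (n := n + p) (a := -p) (by lia) key

/-- The derived tensor product with a K-flat complex commutes with restriction to opens. -/
lemma nonempty_restrict {Y Z : Scheme.{u}} (j : Y ⟶ Z) [IsOpenImmersion j] (P : CochainComplex Z.Modules ℤ)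
    (hP : DCoh.IsKFlat P) [DCoh.HasLTensorCx P]
    [DCoh.HasLTensorCx (((Scheme.Modules.pullback j).mapHomologicalComplex (ComplexShape.up ℤ)).obj P)]
    (E : DCoh.D Z) :
    Nonempty ((restrictD j).obj ((DCoh.LTensorCx P).obj E) ≅
      (DCoh.LTensorCx (((Scheme.Modules.pullback j).mapHomologicalComplex (ComplexShape.up ℤ)).obj P)).obj
        ((restrictD j).obj E)) := by
  have h2 := Groth.Agent.Dcoh.DerPull.hasLpull j
  obtain ⟨e⟩ := Groth.Agent.S0960.result j P hP E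
  exact ⟨((Groth.Agent.Dcoh.DerPull.lpullOpenIso j).app _).symm ≪≫ e ≪≫
    (DCoh.LTensorCx _).mapIso ((Groth.Agent.Dcoh.DerPull.lpullOpenIso j).app E)⟩

lemma nonempty_restrictQ {Y Z : Scheme.{u}} (j : Y ⟶ Z) [IsOpenImmersion j] (P : CochainComplex Z.Modules ℤ)
    (hP : DCoh.IsKFlat P) :
    Nonempty ((restrictD j).obj (DerivedCategory.Q.obj P) ≅
      DerivedCategory.Q.obj
        (((Scheme.Modules.pullback j).mapHomologicalComplex (ComplexShape.up ℤ)).obj P)) := by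
  have h2 := Groth.Agent.Dcoh.DerPull.hasLpull j
  exact ⟨((Groth.Agent.Dcoh.DerPull.lpullOpenIso j).app _).symm ≪≫
    Groth.Agent.Dcoh.DerPull.lpullIso j P hP⟩

lemma isLE_ltensor {Z : Scheme.{u}} (P : CochainComplex Z.Modules ℤ) (d : ℤ)
    (hd : (DerivedCategory.Q.obj P).IsLE d) [DCoh.HasLTensorCx P] (E : DCoh.D Z) (a : ℤ) (hE : E.IsLE a) :
    ((DCoh.LTensorCx P).obj E).IsLE (a + d) := by
  have : (DCoh.toD Z P).IsLE d := hd
  exact PerfC.LTBound.isLE_LTensorCx (PerfA.TensDev.bifData (X := Z)) P d E a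

theorem push_tens (k : ℕ) : ∀ {X Z : Scheme.{u}} (i : Z ⟶ X) [IsClosedImmersion i]
    (P : CochainComplex Z.Modules ℤ) (_ : DCoh.IsKFlat P) [DCoh.HasLTensorCx P] {d n : ℤ}
    (_ : (DerivedCategory.Q.obj P).IsLE d)
    (_ : DCoh.IsPseudoCoherentD n ((pushD i).obj (DerivedCategory.Q.obj P))) (E : DCoh.D Z) (a m : ℤ)
    (_ : E.IsLE (a - 1 + k)) (_ : DCoh.IsPseudoCoherentD a E) (_ : a + d ≤ m) (_ : a - 1 + k + n ≤ m),
    DCoh.IsPseudoCoherentD m ((pushD i).obj ((DCoh.LTensorCx P).obj E)) := by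
  induction k with
  | zero =>
    intro X Z i _ P hP _ d n hd hPn E a m hE ha h1 h2
    have h3 := isLE_ltensor P d hd E _ hE
    have := isLE_pushD i _ _ h3
    exact pc_of_vanish fun j hj => isZero_of_isLE _ (a - 1 + (0 : ℕ) + d) j (by push_cast; lia)
  | succ k ih =>
    intro X Z i _ P hP _ d n hd hPn E a m hE ha h1 h2
    have hE' : E.IsLE (a + k) := by
      have : a - 1 + ((k + 1 : ℕ) : ℤ) = a + k := by push_cast; ring
      rwa [this] at hE
    push_cast at h2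
    refine push_of_local i _ fun z => ?_
    obtain ⟨V, hzV, r, C, α, β, γ, hT, hCle⟩ := exists_step i (p := a + k) (by lia) E hE' (Or.inl ha) z
    refine ⟨V, hzV, ?_⟩
    let P' := ((Scheme.Modules.pullback (i ⁻¹ᵁ V).ι).mapHomologicalComplex (ComplexShape.up ℤ)).obj P
    have hP' : DCoh.IsKFlat P' := Groth.Agent.S0952.result (i ⁻¹ᵁ V).ι P hP
    have hT' : DCoh.HasLTensorCx P' := PerfC.DTens.hasLTensorCx P'
    obtain ⟨e1⟩ := nonempty_restrict (i ⁻¹ᵁ V).ι P hP E
    obtain ⟨e2⟩ := nonempty_restrictQ (i ⁻¹ᵁ V).ι P hP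
    have hd' : (DerivedCategory.Q.obj P').IsLE d := by
      have h3 : ((restrictD (i ⁻¹ᵁ V).ι).obj (DerivedCategory.Q.obj P)).IsLE d :=
        ExactD.isLE_map _ _ _
      exact ⟨DerivedCategory.TStructure.t.isLE_of_iso e2 d |>.le⟩
    have hPn' : DCoh.IsPseudoCoherentD n ((pushD (i ∣_ V)).obj (DerivedCategory.Q.obj P')) :=
      pc_of_iso ((pushDRestrict i V).app _ ≪≫ (pushD (i ∣_ V)).mapIso e2) (pc_restrict V.ι hPn)
    have hC : DCoh.IsPseudoCoherentD a C :=
      (S0889.result a _ hT).1 (pc_single_freeMod r (a + k) (a + 1)) (pc_restrict _ ha)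
    have h4 : DCoh.IsPseudoCoherentD m ((pushD (i ∣_ V)).obj ((DCoh.LTensorCx P').obj C)) :=
      ih (i ∣_ V) P' hP' hd' hPn' C a m (by rwa [show a - 1 + (k : ℤ) = a + k - 1 by ring]) hC h1
        (by lia)
    have hΦ : IsTriang (DCoh.LTensorCx P' ⋙ pushD (i ∣_ V)) :=
      (PerfC.DTens.isTriang_LTensorCx P').comp (IsTriang.mk' _)
    have h5 : DCoh.IsPseudoCoherentD n ((DCoh.LTensorCx P' ⋙ pushD (i ∣_ V)).obj
        (DCoh.inD _ (Coh.structureModule (i ⁻¹ᵁ V : Z.Opens).toScheme))) := by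
      obtain ⟨e3⟩ := Groth.Agent.Cohder.RelPCMon.nonempty_unit P'
      exact pc_of_iso ((pushD (i ∣_ V)).mapIso e3.symm) hPn'
    have h6 := pc_map_single hΦ h5 r (p := a + k) (m := m) (by lia)
    refine pc_of_iso ((pushD (i ∣_ V)).mapIso e1.symm) ?_
    obtain ⟨_, _⟩ := hΦ
    exact (S0889.result m _ ((DCoh.LTensorCx P' ⋙ pushD (i ∣_ V)).map_distinguished _ hT)).2.1 h6 h4

/-- **Main result**: `i_*(G ⊗ᴸ P)` is `max (a + d) (b + n)`-pseudo-coherent. -/
theorem push_tens_le {X Z : Scheme.{u}} (i : Z ⟶ X) [IsClosedImmersion i]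
    (P : CochainComplex Z.Modules ℤ) (hP : DCoh.IsKFlat P) [DCoh.HasLTensorCx P] {a b d n m : ℤ}
    (hd : (DerivedCategory.Q.obj P).IsLE d)
    (hPn : DCoh.IsPseudoCoherentD n ((pushD i).obj (DerivedCategory.Q.obj P))) (E : DCoh.D Z)
    (hE : E.IsLE b) (ha : DCoh.IsPseudoCoherentD a E) (h1 : a + d ≤ m) (h2 : b + n ≤ m) :
    DCoh.IsPseudoCoherentD m ((pushD i).obj ((DCoh.LTensorCx P).obj E)) := by
  by_cases hb : b < a
  · have h3 := isLE_ltensor P d hd E _ hE
    have := isLE_pushD i _ _ h3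
    exact pc_of_vanish fun j hj => isZero_of_isLE _ (b + d) j (by lia)
  · obtain ⟨k, hk⟩ := Int.eq_ofNat_of_zero_le (show 0 ≤ b - a + 1 by lia)
    exact push_tens k i P hP hd hPn E a m (by rwa [show a - 1 + (k : ℤ) = b by lia]) ha h1 (by lia)

end K261.TensPush
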